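import Mathlib
import Groth.Agent.SiteCoh.Basic

/-!
An acyclic resolution computes Ext out of a fixed object.
-/

set_option autoImplicit false

universe w v u

open CategoryTheory CategoryTheory.Limits CategoryTheory.Abelian

namespace Groth.Agent.LCZ

variable {A : Type u} [Category.{v} A] [Abelian A] [HasExt.{w} A] (K : CochainComplex A ℕ)

/-- The sequence of consecutive cycles. -/
noncomputable abbrev seqCyc (k : ℕ) : ShortComplex A :=
  ShortComplex.mk (K.iCycles k) (K.toCycles k (k + 1)) (by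
    rw [← cancel_mono (K.iCycles (k + 1)), Category.assoc, HomologicalComplex.toCycles_i,
      HomologicalComplex.iCycles_d, zero_comp])

variable (hex : ∀ n, K.ExactAt (n + 1))

omit [HasExt.{w} A] in
include hex in
lemma seqCyc_shortExact (k : ℕ) : (seqCyc K k).ShortExact := by
  have : Epi (seqCyc K k).g := Preadditive.epi_of_isZero_cokernel _
    ((HomologicalComplex.ExactAt.isZero_homology (hex k)).of_iso
      (IsColimit.coconePointUniqueUpToIso (cokernelIsCokernel _) (K.homologyIsCokernel k (k + 1) (by simp))))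
  exact { exact := ShortComplex.exact_of_f_is_kernel _ (KernelFork.IsLimit.ofι' _ _ fun {W} g hg =>
    ⟨K.liftCycles g (k + 1) (by simp) (by
        rw [← HomologicalComplex.toCycles_i, ← Category.assoc]
        exact (congr_arg (· ≫ K.iCycles (k + 1)) hg).trans zero_comp),
      K.liftCycles_i _ _ _ _⟩) }

/-- The iterated extension class. -/
noncomputable def eCls : ∀ k : ℕ, Ext (K.cycles k) (K.cycles 0) k
  | 0 => Ext.mk₀ (𝟙 _)
  | k + 1 => (seqCyc_shortExact K hex k).extClass.comp (eCls k) (Nat.add_comm 1 k)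

variable (P : A) (hK : ∀ n m : ℕ, Subsingleton (Ext P (K.X n) (m + 1)))

include hK in
lemma eCls_bijective : ∀ (k m N : ℕ) (h : m + 1 + k = N), Function.Bijective
    (fun x : Ext P (K.cycles k) (m + 1) => x.comp (eCls K hex k) h)
  | 0, m, N, h => by
    obtain rfl : N = m + 1 := by omega
    have e : ∀ x : Ext P (K.cycles 0) (m + 1), x.comp (eCls K hex 0) h = x := fun x => Ext.comp_mk₀_id x
    rw [funext e]
    exact Function.bijective_id
  | k + 1, m, N, h => by
    have h₁ : Subsingleton (Ext P (seqCyc K k).X₂ (m + 1)) := hK k m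
    have h₂ : Subsingleton (Ext P (seqCyc K k).X₂ (m + 1 + 1)) := hK k (m + 1)
    let σ := SiteCoh.shiftEquiv (seqCyc_shortExact K hex k) P (m + 1)
    have e : ∀ x : Ext P (K.cycles (k + 1)) (m + 1),
        x.comp (eCls K hex (k + 1)) h = (σ x).comp (eCls K hex k) (show m + 1 + 1 + k = N by omega) := fun x =>
      (Ext.comp_assoc x (seqCyc_shortExact K hex k).extClass (eCls K hex k) rfl (Nat.add_comm 1 k)
        (by omega)).symm
    rw [funext e]
    exact (eCls_bijective k (m + 1) N (by omega)).comp σ.bijective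

omit [HasExt.{w} A] in
/-- Cocycles of `Hom(P, K)`. -/
def homCyc (n : ℕ) : AddSubgroup (P ⟶ K.X n) where
  carrier := {f | f ≫ K.d n (n + 1) = 0}
  zero_mem' := zero_comp
  add_mem' {a b} (ha : a ≫ _ = 0) (hb : b ≫ _ = 0) := by
    show (a + b) ≫ _ = 0
    rw [Preadditive.add_comp, ha, hb, add_zero]
  neg_mem' {a} (ha : a ≫ _ = 0) := by
    show (-a) ≫ _ = 0
    rw [Preadditive.neg_comp, ha, neg_zero]

omit [HasExt.{w} A] in
/-- A cocycle from its property. -/
def mkCyc (n : ℕ) (f : P ⟶ K.X n) (hf : f ≫ K.d n (n + 1) = 0) : homCyc K P n := ⟨f, hf⟩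

omit [HasExt.{w} A] in
/-- The lift to the cycles. -/
noncomputable def homLift (n : ℕ) (f : homCyc K P n) : P ⟶ K.cycles n :=
  K.liftCycles f.1 (n + 1) (by simp) f.2

omit [HasExt.{w} A] in
lemma homLift_i (n : ℕ) (f : homCyc K P n) : homLift K P n f ≫ K.iCycles n = f.1 := K.liftCycles_i _ _ _ _

/-- The class of a cocycle. -/
noncomputable def homCls (n : ℕ) : homCyc K P n →+ Ext P (K.cycles 0) n :=
  AddMonoidHom.mk' (fun f => (Ext.mk₀ (homLift K P n f)).comp (eCls K hex n) (zero_add n)) fun a b => by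
    rw [← Ext.add_comp, ← Ext.mk₀_add]
    refine congrArg (fun g => (Ext.mk₀ g).comp (eCls K hex n) (zero_add n)) ?_
    rw [← cancel_mono (K.iCycles n), Preadditive.add_comp, homLift_i, homLift_i, homLift_i]
    rfl

include hK in
lemma homCls_surjective (n : ℕ) : Function.Surjective (homCls K hex P n) := by
  intro x
  have lift : ∀ φ : P ⟶ K.cycles n, ∃ f : homCyc K P n, homLift K P n f = φ := fun φ =>
    ⟨⟨φ ≫ K.iCycles n, by show (φ ≫ K.iCycles n) ≫ _ = 0; simp⟩, by rw [← cancel_mono (K.iCycles n), homLift_i]⟩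
  rcases n with _ | n
  · obtain ⟨φ, rfl⟩ := (Ext.mk₀_bijective _ _).2 x
    obtain ⟨f, hf⟩ := lift φ
    exact ⟨f, (Ext.comp_mk₀_id _).trans (congrArg Ext.mk₀ hf)⟩
  · obtain ⟨y, hy⟩ : ∃ y : Ext P (K.cycles n) 1, y.comp (eCls K hex n) (Nat.add_comm 1 n) = x :=
      (eCls_bijective K hex P hK n 0 (n + 1) (by omega)).2 x
    have : Subsingleton (Ext P (seqCyc K n).X₂ 1) := hK n 0
    obtain ⟨w, rfl⟩ := Ext.covariant_sequence_exact₁ P (seqCyc_shortExact K hex n) y (Subsingleton.elim _ _) (zero_add 1)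
    obtain ⟨φ, rfl⟩ := (Ext.mk₀_bijective _ _).2 w
    obtain ⟨f, hf⟩ := lift φ
    refine ⟨f, Eq.trans ?_ hy⟩
    change (Ext.mk₀ (homLift K P (n + 1) f)).comp _ (zero_add (n + 1)) = _
    rw [hf, Ext.comp_assoc _ _ _ (zero_add 1) (Nat.add_comm 1 n) (by omega)]
    rfl

lemma homCls_zero_eq_zero_iff (f : homCyc K P 0) : homCls K hex P 0 f = 0 ↔ f.1 = 0 := by
  constructor
  · intro h
    have h0 : homLift K P 0 f = 0 :=
      (Ext.mk₀_bijective _ _).1 (((Ext.comp_mk₀_id _).symm.trans h).trans (Ext.mk₀_zero _ _).symm)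
    rw [← homLift_i K P 0 f, h0, zero_comp]
  · intro h
    have : f = 0 := Subtype.ext h
    rw [this, map_zero]

include hK in
lemma homCls_succ_eq_zero_iff (n : ℕ) (f : homCyc K P (n + 1)) :
    homCls K hex P (n + 1) f = 0 ↔ ∃ g : P ⟶ K.X n, g ≫ K.d n (n + 1) = f.1 := by
  let φ := homLift K P (n + 1) f
  constructor
  · intro h
    have h1 : ((Ext.mk₀ φ).comp (seqCyc_shortExact K hex n).extClass (zero_add 1)).comp (eCls K hex n)
        (Nat.add_comm 1 n) = 0 :=
      (Ext.comp_assoc (Ext.mk₀ φ) (seqCyc_shortExact K hex n).extClass (eCls K hex n) (zero_add 1)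
        (Nat.add_comm 1 n) (show 0 + 1 + n = n + 1 by omega)).trans h
    have h2 : (Ext.mk₀ φ).comp (seqCyc_shortExact K hex n).extClass (zero_add 1) = 0 :=
      (eCls_bijective K hex P hK n 0 (n + 1) (by omega)).1 (h1.trans (Ext.zero_comp _ _ _ _ _).symm)
    obtain ⟨x, hx⟩ := Ext.covariant_sequence_exact₃ P (seqCyc_shortExact K hex n) (Ext.mk₀ φ) (zero_add 1) h2
    obtain ⟨ψ, rfl⟩ := (Ext.mk₀_bijective _ _).2 x
    rw [Ext.mk₀_comp_mk₀] at hx
    refine ⟨ψ, ?_⟩
    rw [← K.toCycles_i n (n + 1), ← Category.assoc]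
    exact (congrArg (· ≫ K.iCycles (n + 1)) ((Ext.mk₀_bijective _ _).1 hx)).trans (homLift_i K P _ f)
  · rintro ⟨g, hg⟩
    have hφ : φ = g ≫ K.toCycles n (n + 1) := by
      rw [← cancel_mono (K.iCycles (n + 1)), Category.assoc, HomologicalComplex.toCycles_i, hg]
      exact homLift_i K P _ f
    change (Ext.mk₀ φ).comp _ (zero_add (n + 1)) = 0
    rw [hφ, ← Ext.mk₀_comp_mk₀, eCls]
    rw [Ext.comp_assoc (Ext.mk₀ g) (Ext.mk₀ (K.toCycles n (n + 1))) _ (zero_add 0) (zero_add (n + 1))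
        (show 0 + 0 + (n + 1) = n + 1 by omega),
      ← Ext.comp_assoc (Ext.mk₀ (K.toCycles n (n + 1))) _ _ (zero_add 1) (Nat.add_comm 1 n) (by omega),
      show (Ext.mk₀ (K.toCycles n (n + 1))).comp (seqCyc_shortExact K hex n).extClass (zero_add 1) = 0 from
        (seqCyc_shortExact K hex n).comp_extClass, Ext.zero_comp, Ext.comp_zero]

end Groth.Agent.LCZ
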