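import Mathlib
import Groth.Prelude.Def_LocCohZ
import Groth.Agent.SiteCoh.Cartan

/-!
Sections with supports in the closed complement of an open, and maps out of `ℤ_V/ℤ_W`.
-/

set_option autoImplicit false

universe u

open CategoryTheory CategoryTheory.Limits Opposite TopologicalSpace

namespace Groth.Agent.LCZ

open Groth.Agent.SiteCoh

variable {X : TopCat.{u}}

/-- Restriction of sections. -/
abbrev res (F : CohTop.Ab X) {V V' : Opens X} (h : V' ≤ V) : F.obj.obj (op V) →+ F.obj.obj (op V') :=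
  (F.obj.map (homOfLE h).op).hom

theorem res_res (F : CohTop.Ab X) {V V' V'' : Opens X} (h : V' ≤ V) (h' : V'' ≤ V') (s : F.obj.obj (op V)) :
    res F h' (res F h s) = res F (h'.trans h) s :=
  ((ConcreteCategory.congr_hom (F.obj.map_comp (homOfLE h).op (homOfLE h').op)) s).symm

theorem res_self (F : CohTop.Ab X) {V : Opens X} (h : V ≤ V) (s : F.obj.obj (op V)) : res F h s = s :=
  ConcreteCategory.congr_hom (F.obj.map_id (op V)) s

theorem app_res {F G : CohTop.Ab X} (φ : F ⟶ G) {V V' : Opens X} (h : V' ≤ V) (s : F.obj.obj (op V)) :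
    φ.hom.app (op V') (res F h s) = res G h (φ.hom.app (op V) s) :=
  NatTrans.naturality_apply φ.hom (homOfLE h).op s

theorem app_injective_of_mono {F G : CohTop.Ab X} (φ : F ⟶ G) [Mono φ] (V : Opens X) :
    Function.Injective (φ.hom.app (op V)) := by
  have : Mono φ.hom := inferInstanceAs (Mono ((sheafToPresheaf _ _).map φ))
  exact (AddCommGrpCat.mono_iff_injective _).1 inferInstance

variable (U : Opens X)

/-- Restriction to `U`, extended back to `X`. -/
noncomputable def toPushRestr (F : CohTop.Ab X) :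
    F ⟶ (CohTop.push (CohCx.incl U)).obj ((CohTop.restrFunctor U).obj F) :=
  ⟨{ app := fun W => F.obj.map (homOfLE (by rintro _ ⟨x, hx, rfl⟩; exact hx)).op
     naturality := fun W W' i => by
       change F.obj.map _ ≫ F.obj.map _ = F.obj.map _ ≫ F.obj.map _
       rw [← F.obj.map_comp, ← F.obj.map_comp]
       rfl }⟩

/-- The unit `F ⟶ j_* j⁻¹ F`. -/
noncomputable abbrev unit (F : CohTop.Ab X) :
    F ⟶ (CohTop.push (CohCx.incl U)).obj ((CohTop.pull (CohCx.incl U)).obj F) :=
  (TopCat.Sheaf.pullbackPushforwardAdjunction AddCommGrpCat.{u} (CohCx.incl U)).unit.app F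

theorem unit_app_eq_zero_iff (F : CohTop.Ab X) (V : Opens X) (s : F.obj.obj (op V)) :
    (unit U F).hom.app (op V) s = 0 ↔ res F (inf_le_left : V ⊓ U ≤ V) s = 0 := by
  constructor
  · intro h
    let g := ((TopCat.Sheaf.pullbackPushforwardAdjunction AddCommGrpCat.{u} (CohCx.incl U)).homEquiv F _).symm
      (toPushRestr U F)
    have e : unit U F ≫ (CohTop.push (CohCx.incl U)).map g = toPushRestr U F :=
      ((TopCat.Sheaf.pullbackPushforwardAdjunction AddCommGrpCat.{u} (CohCx.incl U)).homEquiv_unit F _ g).symm.trans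
        (Equiv.apply_symm_apply _ _)
    have h1 : (toPushRestr U F).hom.app (op V) s = 0 :=
      (congrArg (fun φ : F ⟶ _ => φ.hom.app (op V) s) e).symm.trans
        ((congrArg (((CohTop.push (CohCx.incl U)).map g).hom.app (op V)) h).trans (map_zero _))
    have h2 : V ⊓ U ≤ ((CohCx.incl U).hom.toFun '' ((Opens.map (CohCx.incl U)).obj V : Set U) : Set X) :=
      fun x hx => ⟨⟨x, hx.2⟩, hx.1, rfl⟩
    refine Eq.trans ?_ ((congrArg (F.obj.map (homOfLE ?_).op) h1).trans (map_zero _))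
    · exact (ConcreteCategory.congr_hom (F.obj.map_comp _ _) s)
    · exact fun x hx => h2 hx
  · intro h
    let G := (CohTop.pull (CohCx.incl U)).obj F
    have h1 : G.obj.map ((Opens.map (CohCx.incl U)).map (homOfLE (inf_le_left : V ⊓ U ≤ V))).op
        ((unit U F).hom.app (op V) s) = 0 :=
      (NatTrans.naturality_apply (unit U F).hom (homOfLE (inf_le_left : V ⊓ U ≤ V)).op s).symm.trans
        ((congrArg ((unit U F).hom.app (op (V ⊓ U))) h).trans (map_zero _))
    have hle : (Opens.map (CohCx.incl U)).obj V ≤ (Opens.map (CohCx.incl U)).obj (V ⊓ U) :=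
      fun x hx => ⟨hx, x.2⟩
    have h2 := (congrArg (G.obj.map (homOfLE hle).op) h1).trans (map_zero _)
    rw [← ConcreteCategory.comp_apply, ← Functor.map_comp] at h2
    exact (ConcreteCategory.congr_hom (G.obj.map_id _) _).symm.trans h2

/-- The inclusion of the sections with supports. -/
noncomputable abbrev suppι (F : CohTop.Ab X) : (LocCohZ.sectSuppF U).obj F ⟶ F :=
  kernel.ι (unit U F)

instance mono_suppι (F : CohTop.Ab X) : Mono (suppι U F) :=
  inferInstanceAs (Mono (kernel.ι (unit U F)))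

theorem suppι_injective (F : CohTop.Ab X) (V : Opens X) : Function.Injective ((suppι U F).hom.app (op V)) :=
  app_injective_of_mono _ V

theorem res_suppι (F : CohTop.Ab X) {V : Opens X} (t : ((LocCohZ.sectSuppF U).obj F).obj.obj (op V)) :
    res F (inf_le_left : V ⊓ U ≤ V) ((suppι U F).hom.app (op V) t) = 0 := by
  rw [← unit_app_eq_zero_iff]
  exact congrArg (fun φ : (LocCohZ.sectSuppF U).obj F ⟶ _ => φ.hom.app (op V) t) (kernel.condition (unit U F))

theorem exists_suppι {F : CohTop.Ab X} {V : Opens X} {s : F.obj.obj (op V)}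
    (h : res F (inf_le_left : V ⊓ U ≤ V) s = 0) : ∃ t, (suppι U F).hom.app (op V) t = s := by
  have h1 : (secEquiv V F).symm s ≫ unit U F = 0 := (secEquiv V _).injective (by
    rw [secEquiv_comp, AddEquiv.apply_symm_apply, (unit_app_eq_zero_iff U F V s).2 h, map_zero])
  exact ⟨secEquiv V _ (kernel.lift (unit U F) _ h1),
    ((secEquiv_comp _ _).symm.trans (congrArg (secEquiv V F) (kernel.lift_ι (unit U F) _ h1))).trans ((secEquiv V F).apply_symm_apply s)⟩

theorem sectSuppF_map_suppι {F G : CohTop.Ab X} (φ : F ⟶ G) :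
    (LocCohZ.sectSuppF U).map φ ≫ suppι U G = suppι U F ≫ φ :=
  kernel.lift_ι _ _ _

theorem suppι_map_apply {F G : CohTop.Ab X} (φ : F ⟶ G) {V : Opens X}
    (t : ((LocCohZ.sectSuppF U).obj F).obj.obj (op V)) :
    (suppι U G).hom.app (op V) (((LocCohZ.sectSuppF U).map φ).hom.app (op V) t) =
      φ.hom.app (op V) ((suppι U F).hom.app (op V) t) :=
  congrArg (fun ψ : (LocCohZ.sectSuppF U).obj F ⟶ G => ψ.hom.app (op V) t) (sectSuppF_map_suppι U φ)

theorem epi_res_iff (F : CohTop.Ab X) :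
    TopCat.Sheaf.IsFlasque F ↔ ∀ (V V' : Opens X) (h : V' ≤ V), Function.Surjective (res F h) :=
  ⟨fun hF V V' h => (AddCommGrpCat.epi_iff_surjective (F.obj.map (homOfLE h).op)).1 (hF.epi _),
    fun H => ⟨fun {V V'} i => (AddCommGrpCat.epi_iff_surjective _).2 (H _ _ (leOfHom i.unop))⟩⟩

theorem res_surjective (F : CohTop.Ab X) [TopCat.Sheaf.IsFlasque F] {V V' : Opens X} (h : V' ≤ V) :
    Function.Surjective (res F h) :=
  (epi_res_iff F).1 inferInstance V V' h

/-- A section over `V'` vanishing on `V' ⊓ U` extends to one vanishing on `V ⊓ U`. -/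
theorem exists_extension (F : CohTop.Ab X) [TopCat.Sheaf.IsFlasque F] {V V' : Opens X} (h : V' ≤ V)
    (s : F.obj.obj (op V')) (hs : res F (inf_le_left : V' ⊓ U ≤ V') s = 0) :
    ∃ t : F.obj.obj (op V), res F h t = s ∧ res F (inf_le_left : V ⊓ U ≤ V) t = 0 := by
  have hc : res F (inf_le_left : V' ⊓ (V ⊓ U) ≤ V') s =
      res F (inf_le_right : V' ⊓ (V ⊓ U) ≤ V ⊓ U) (0 : F.obj.obj (op (V ⊓ U))) := by
    rw [map_zero, ← res_res F (inf_le_left : V' ⊓ U ≤ V') (inf_le_inf_left V' inf_le_right), hs, map_zero]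
  let A : ULift.{u} Bool → Opens X := fun b => bif b.down then V' else V ⊓ U
  have hA : ∀ b, A b ≤ V' ⊔ (V ⊓ U) := by
    rintro ⟨_ | _⟩
    exacts [le_sup_right, le_sup_left]
  let sA : ∀ b, F.obj.obj (op (A b))
    | ⟨true⟩ => s
    | ⟨false⟩ => 0
  have hcompat : TopCat.Presheaf.IsCompatible F.obj A sA := by
    rintro ⟨_ | _⟩ ⟨_ | _⟩
    · rfl
    · refine (map_zero _).trans (Eq.symm ?_)
      have : (V ⊓ U) ⊓ V' ≤ V' ⊓ (V ⊓ U) := le_inf inf_le_right inf_le_left
      exact ((congrArg (res F this) hc).trans (by rw [map_zero, map_zero]) |> fun e => (res_res F _ this s).symm.trans e)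
    · refine Eq.trans ?_ (map_zero _).symm
      exact hc.trans (map_zero _)
    · rfl
  obtain ⟨g, hg, -⟩ := TopCat.Sheaf.existsUnique_gluing' F A (V' ⊔ (V ⊓ U)) (fun b => homOfLE (hA b))
    (sup_le (le_iSup A ⟨true⟩) (le_iSup A ⟨false⟩)) sA hcompat
  obtain ⟨t, ht⟩ := res_surjective F (sup_le h inf_le_left : V' ⊔ (V ⊓ U) ≤ V) g
  refine ⟨t, ?_, ?_⟩
  · rw [← res_res F (sup_le h inf_le_left) (le_sup_left : V' ≤ V' ⊔ (V ⊓ U)), ht]
    exact hg ⟨true⟩
  · rw [← res_res F (sup_le h inf_le_left) (le_sup_right : V ⊓ U ≤ V' ⊔ (V ⊓ U)), ht]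
    exact hg ⟨false⟩

theorem isFlasque_sectSupp (F : CohTop.Ab X) [TopCat.Sheaf.IsFlasque F] :
    TopCat.Sheaf.IsFlasque ((LocCohZ.sectSuppF U).obj F) := by
  refine (epi_res_iff _).2 fun V V' h a => ?_
  obtain ⟨t, ht, ht0⟩ := exists_extension U F h _ (res_suppι U F a)
  obtain ⟨b, hb⟩ := exists_suppι U ht0
  exact ⟨b, suppι_injective U F V' ((app_res _ h b).trans ((congrArg (res F h) hb).trans ht))⟩

section Zq

variable {U} {W V : Opens X} (h : W ≤ V) {F : CohTop.Ab X}

/-- The map out of `ℤ_V/ℤ_W` given by a section vanishing on `W`. -/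
noncomputable def zqHom (s : F.obj.obj (op V)) (hs : res F h s = 0) : LocCohZ.zq h ⟶ F :=
  cokernel.desc _ ((secEquiv V F).symm s) ((secEquiv W F).injective (by
    rw [secEquiv_freeSheafMap, AddEquiv.apply_symm_apply, map_zero]; exact hs))

/-- The section defined by a map out of `ℤ_V/ℤ_W`. -/
noncomputable def zqSec (φ : LocCohZ.zq h ⟶ F) : F.obj.obj (op V) :=
  secEquiv V F (cokernel.π _ ≫ φ)

theorem zqSec_zqHom (s : F.obj.obj (op V)) (hs : res F h s = 0) : zqSec h (zqHom h s hs) = s := by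
  rw [zqSec, zqHom, cokernel.π_desc, AddEquiv.apply_symm_apply]

theorem res_zqSec (φ : LocCohZ.zq h ⟶ F) : res F h (zqSec h φ) = 0 := by
  rw [zqSec]
  refine (secEquiv_freeSheafMap (homOfLE h) _).symm.trans ?_
  rw [cokernel.condition_assoc, zero_comp, map_zero]

theorem zqSec_injective : Function.Injective (zqSec h : (LocCohZ.zq h ⟶ F) → _) := fun _ _ e =>
  (cancel_epi (cokernel.π _)).1 ((secEquiv V F).injective e)

theorem zqHom_zqSec (φ : LocCohZ.zq h ⟶ F) : zqHom h (zqSec h φ) (res_zqSec h φ) = φ :=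
  zqSec_injective h (zqSec_zqHom h _ _)

theorem zqSec_comp {G : CohTop.Ab X} (φ : LocCohZ.zq h ⟶ F) (f : F ⟶ G) :
    zqSec h (φ ≫ f) = f.hom.app (op V) (zqSec h φ) := by
  rw [zqSec, zqSec, ← secEquiv_comp, Category.assoc]

theorem zqSec_zero : zqSec h (0 : LocCohZ.zq h ⟶ F) = 0 := by
  rw [zqSec, comp_zero, map_zero]

theorem zqSec_zqMap {W' V' : Opens X} (h' : W' ≤ V') (hW : W' ≤ W) (hV : V' ≤ V) (φ : LocCohZ.zq h ⟶ F) :
    zqSec h' (LocCohZ.zqMap h h' hW hV ≫ φ) = res F hV (zqSec h φ) := by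
  rw [zqSec, LocCohZ.zqMap, cokernel.π_desc_assoc, Category.assoc]
  exact secEquiv_freeSheafMap (homOfLE hV) _

end Zq

end Groth.Agent.LCZ
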