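import Mathlib
import Groth.Agent.LCZ.Supp
import Groth.Agent.SiteCoh.Derived

/-!
Cohomology with supports through an injective resolution, and the long exact sequence of a pair.
-/

set_option autoImplicit false

universe u

open CategoryTheory CategoryTheory.Limits Opposite TopologicalSpace
open CategoryTheory.Abelian

namespace Groth.Agent.LCZ

open Groth.Agent.SiteCoh

variable {X : TopCat.{u}} {F : CohTop.Ab X} {W V : Opens X} (h : W ≤ V)

section Resolution

variable (R : InjectiveResolution F)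

/-- The differential on sections. -/
abbrev dsec (n m : ℕ) (V : Opens X) : (R.cocomplex.X n).obj.obj (op V) →+ (R.cocomplex.X m).obj.obj (op V) :=
  ((R.cocomplex.d n m).hom.app (op V)).hom

theorem zqHom_d {n : ℕ} (s : (R.cocomplex.X n).obj.obj (op V)) (hs : res _ h s = 0)
    (hd : dsec R n (n + 1) V s = 0) : zqHom h s hs ≫ R.cocomplex.d n (n + 1) = 0 :=
  zqSec_injective h (by rw [zqSec_comp, zqSec_zqHom, zqSec_zero]; exact hd)

/-- The class with supports of a closed section vanishing on `W`. -/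
noncomputable def clZ (n : ℕ) (s : (R.cocomplex.X n).obj.obj (op V)) (hs : res _ h s = 0)
    (hd : dsec R n (n + 1) V s = 0) : LocCohZ.HZ F n h :=
  R.extMk (zqHom h s hs) (n + 1) rfl (zqHom_d h R s hs hd)

theorem exists_clZ {n : ℕ} (x : LocCohZ.HZ F n h) : ∃ s hs hd, clZ h R n s hs hd = x := by
  obtain ⟨f, hf, rfl⟩ := R.extMk_surjective x (n + 1) rfl
  refine ⟨zqSec h f, res_zqSec h f, ?_, ?_⟩
  · have := congrArg (zqSec h) hf
    rw [zqSec_comp, zqSec_zero] at this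
    exact this
  · exact SiteCoh.extMk_congr R _ _ _ _ (zqHom_zqSec h f)

theorem clZ_eq_zero_iff {p : ℕ} (s : (R.cocomplex.X (p + 1)).obj.obj (op V)) (hs : res _ h s = 0)
    (hd : dsec R (p + 1) (p + 1 + 1) V s = 0) :
    clZ h R (p + 1) s hs hd = 0 ↔ ∃ t, res _ h t = 0 ∧ dsec R p (p + 1) V t = s := by
  rw [clZ, R.extMk_eq_zero_iff _ _ _ _ p rfl]
  constructor
  · rintro ⟨g, hg⟩
    refine ⟨zqSec h g, res_zqSec h g, ?_⟩
    have := congrArg (zqSec h) hg
    rw [zqSec_comp, zqSec_zqHom] at this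
    exact this
  · rintro ⟨t, ht, hts⟩
    refine ⟨zqHom h t ht, zqSec_injective h ?_⟩
    rw [zqSec_comp, zqSec_zqHom, zqSec_zqHom]
    exact hts

theorem clZ_zero_eq_zero_iff (s : (R.cocomplex.X 0).obj.obj (op V)) (hs : res _ h s = 0)
    (hd : dsec R 0 (0 + 1) V s = 0) : clZ h R 0 s hs hd = 0 ↔ s = 0 := by
  constructor
  · intro h0
    have := SiteCoh.eq_zero_of_extMk_eq_zero R _ _ h0
    rw [← zqSec_zqHom h s hs, this, zqSec_zero]
  · intro h0
    have e : zqHom h s hs = 0 := zqSec_injective h (by rw [zqSec_zqHom, zqSec_zero, h0])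
    rw [clZ, SiteCoh.extMk_congr R _ _ _ (zero_comp) e, InjectiveResolution.extMk_zero]

theorem subsingleton_succ_iff {p : ℕ} : Subsingleton (LocCohZ.HZ F (p + 1) h) ↔
    ∀ s : (R.cocomplex.X (p + 1)).obj.obj (op V), res _ h s = 0 → dsec R (p + 1) (p + 1 + 1) V s = 0 →
      ∃ t, res _ h t = 0 ∧ dsec R p (p + 1) V t = s := by
  refine ⟨fun _ s hs hd => (clZ_eq_zero_iff h R s hs hd).1 (Subsingleton.elim _ _), fun H => ?_⟩
  refine subsingleton_of_forall_eq 0 fun x => ?_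
  obtain ⟨s, hs, hd, rfl⟩ := exists_clZ h R x
  exact (clZ_eq_zero_iff h R s hs hd).2 (H s hs hd)

theorem subsingleton_zero_iff : Subsingleton (LocCohZ.HZ F 0 h) ↔
    ∀ s : (R.cocomplex.X 0).obj.obj (op V), res _ h s = 0 → dsec R 0 (0 + 1) V s = 0 → s = 0 := by
  refine ⟨fun _ s hs hd => (clZ_zero_eq_zero_iff h R s hs hd).1 (Subsingleton.elim _ _), fun H => ?_⟩
  refine subsingleton_of_forall_eq 0 fun x => ?_
  obtain ⟨s, hs, hd, rfl⟩ := exists_clZ h R x
  exact (clZ_zero_eq_zero_iff h R s hs hd).2 (H s hs hd)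

theorem res_closed {n : ℕ} {V' : Opens X} (hV : V' ≤ V) {s : (R.cocomplex.X n).obj.obj (op V)}
    (hd : dsec R n (n + 1) V s = 0) : dsec R n (n + 1) V' (res _ hV s) = 0 :=
  (app_res (R.cocomplex.d n (n + 1)) hV s).trans ((congrArg (res _ hV) hd).trans (map_zero _))

theorem resZ_clZ {n : ℕ} {W' V' : Opens X} (h' : W' ≤ V') (hW : W' ≤ W) (hV : V' ≤ V)
    (s : (R.cocomplex.X n).obj.obj (op V)) (hs : res _ h s = 0) (hd : dsec R n (n + 1) V s = 0) :
    LocCohZ.resZ F n h h' hW hV (clZ h R n s hs hd) = clZ h' R n (res _ hV s)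
      (by rw [res_res, ← res_res _ h hW, hs, map_zero]) (res_closed R hV hd) := by
  refine (InjectiveResolution.mk₀_comp_extMk R _ _ _ _ _).trans (SiteCoh.extMk_congr R _ _ _ _ (zqSec_injective h' ?_))
  rw [zqSec_zqMap, zqSec_zqHom, zqSec_zqHom]

theorem toHU_clZ {n : ℕ} (s : (R.cocomplex.X n).obj.obj (op V)) (hs : res _ h s = 0)
    (hd : dsec R n (n + 1) V s = 0) :
    LocCohZ.toHU F n h (clZ h R n s hs hd) = SiteCoh.secClass R n V s hd := by
  refine (InjectiveResolution.mk₀_comp_extMk R _ _ _ _ _).trans (SiteCoh.extMk_congr R _ _ _ _ ?_)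
  rw [zqHom, cokernel.π_desc]

theorem secClass_zero_iff {p : ℕ} (s : (R.cocomplex.X (p + 1)).obj.obj (op V))
    (hd : dsec R (p + 1) (p + 1 + 1) V s = 0) :
    SiteCoh.secClass R (p + 1) V s hd = 0 ↔ ∃ t, dsec R p (p + 1) V t = s := by
  rw [SiteCoh.secClass, R.extMk_eq_zero_iff _ _ _ _ p rfl]
  constructor
  · rintro ⟨g, hg⟩
    refine ⟨secEquiv V _ g, ?_⟩
    have := congrArg (secEquiv V (R.cocomplex.X (p + 1))) hg
    rw [secEquiv_comp, AddEquiv.apply_symm_apply] at this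
    exact this
  · rintro ⟨t, hts⟩
    refine ⟨(secEquiv V _).symm t, (secEquiv V _).injective ?_⟩
    rw [secEquiv_comp, AddEquiv.apply_symm_apply, AddEquiv.apply_symm_apply]
    exact hts

end Resolution

theorem res_apply (n : ℕ) (x : CohTop.HU F n V) :
    CohTop.res F n h x =
      (Ext.mk₀ (CohCx.freeSheafMap (Opens.grothendieckTopology X) (homOfLE h))).comp x (zero_add n) := rfl

theorem toHU_exact (n : ℕ) (y : CohTop.HU F n V) :
    CohTop.res F n h y = 0 ↔ ∃ x, LocCohZ.toHU F n h x = y := by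
  constructor
  · intro hy
    exact Ext.contravariant_sequence_exact₂ (LocCohZ.zqSeq_shortExact h) F y ((res_apply h n y).symm.trans hy)
  · rintro ⟨x, rfl⟩
    rw [res_apply]
    show (Ext.mk₀ (LocCohZ.zqSeq h).f).comp ((Ext.mk₀ (LocCohZ.zqSeq h).g).comp x (zero_add n)) (zero_add n) = 0
    rw [Ext.mk₀_comp_mk₀_assoc, ShortComplex.zero, Ext.mk₀_zero, Ext.zero_comp]

theorem subsingleton_succ_iff_res (n : ℕ) : Subsingleton (LocCohZ.HZ F (n + 1) h) ↔
    Function.Surjective (CohTop.res F n h) ∧ Function.Injective (CohTop.res F (n + 1) h) := by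
  constructor
  · intro _
    refine ⟨fun y => ?_, (injective_iff_map_eq_zero _).2 fun y hy => ?_⟩
    · exact Ext.contravariant_sequence_exact₁ (LocCohZ.zqSeq_shortExact h) F y (n₁ := n + 1) (Nat.add_comm 1 n)
        (Subsingleton.elim (α := LocCohZ.HZ F (n + 1) h) _ _)
    · obtain ⟨x, rfl⟩ := (toHU_exact h (n + 1) y).1 hy
      rw [Subsingleton.elim x 0, map_zero]
  · rintro ⟨hs, hi⟩
    refine subsingleton_of_forall_eq 0 fun x => ?_
    have h1 : LocCohZ.toHU F (n + 1) h x = 0 := hi (by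
      rw [map_zero]; exact (toHU_exact h (n + 1) _).2 ⟨x, rfl⟩)
    obtain ⟨w, hw⟩ := Ext.contravariant_sequence_exact₃ (LocCohZ.zqSeq_shortExact h) F x h1 (Nat.add_comm 1 n)
    obtain ⟨y, rfl⟩ := hs w
    rw [← hw, res_apply]
    exact (LocCohZ.zqSeq_shortExact h).extClass_comp_assoc y

theorem toHU_zero_injective : Function.Injective (LocCohZ.toHU F 0 h) :=
  (injective_iff_map_eq_zero _).2 fun x hx => by
    obtain ⟨φ, rfl⟩ := (Ext.mk₀_bijective _ _).2 x
    have h1 : (Ext.mk₀ (cokernel.π _ ≫ φ) : Ext _ F 0) = 0 := (Ext.mk₀_comp_mk₀ _ _).symm.trans hx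
    have h2 : cokernel.π _ ≫ φ = 0 := (Ext.mk₀_bijective _ _).1 (h1.trans (Ext.mk₀_zero _ _).symm)
    rw [show φ = 0 from (cancel_epi (cokernel.π _)).1 (h2.trans comp_zero.symm)]
    exact Ext.mk₀_zero _ _

theorem subsingleton_zero_iff_res : Subsingleton (LocCohZ.HZ F 0 h) ↔ Function.Injective (CohTop.res F 0 h) := by
  constructor
  · intro _
    refine (injective_iff_map_eq_zero _).2 fun y hy => ?_
    obtain ⟨x, rfl⟩ := (toHU_exact h 0 y).1 hy
    rw [Subsingleton.elim x 0, map_zero]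
  · intro hi
    exact subsingleton_of_forall_eq 0 fun x => toHU_zero_injective h (hi (by
      rw [map_zero, map_zero]; exact (toHU_exact h 0 _).2 ⟨x, rfl⟩))

theorem res_zero_apply (x : CohTop.HU F 0 V) :
    hu0 F W (CohTop.res F 0 h x) = res F h (hu0 F V x) := by
  obtain ⟨φ, rfl⟩ := (Ext.mk₀_bijective _ _).2 x
  rw [res_apply, Ext.mk₀_comp_mk₀]
  show secEquiv W F (Ext.addEquiv₀ (Ext.mk₀ _)) = res F h (secEquiv V F (Ext.addEquiv₀ (Ext.mk₀ φ)))
  rw [show ∀ (P : CohTop.Ab X) (ψ : P ⟶ F), Ext.addEquiv₀ (Ext.mk₀ ψ) = ψ from fun P ψ => Ext.addEquiv₀.apply_symm_apply ψ,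
    show ∀ (P : CohTop.Ab X) (ψ : P ⟶ F), Ext.addEquiv₀ (Ext.mk₀ ψ) = ψ from fun P ψ => Ext.addEquiv₀.apply_symm_apply ψ]
  exact secEquiv_freeSheafMap _ φ

theorem subsingleton_HZ_of_isFlasque [TopCat.Sheaf.IsFlasque F] (n : ℕ) :
    Subsingleton (LocCohZ.HZ F (n + 1) h) := by
  have hacyc : ∀ (T : Opens X) (p : ℕ), Subsingleton (CohTop.HU F (p + 1) T) :=
    fun T p => SiteCoh.flasque_acyclic F T p
  refine (subsingleton_succ_iff_res h n).2 ⟨?_, fun a b _ => (hacyc V n).elim a b⟩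
  rcases n with _ | p
  · intro y
    obtain ⟨t, ht⟩ := res_surjective F h (hu0 F W y)
    exact ⟨(hu0 F V).symm t, (hu0 F W).injective (by rw [res_zero_apply, AddEquiv.apply_symm_apply, ht])⟩
  · exact fun y => ⟨0, (hacyc W p).elim _ _⟩

end Groth.Agent.LCZ
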