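import Mathlib
import Groth.Agent.LCZ.Classes
import Groth.Agent.LocH.TildeCompl
import Groth.Agent.LocH.Noetherian
import Groth.Agent.QC.AffineSpec
import Groth.Agent.CohQC.ToSheafExact

/-!
On the spectrum of a Noetherian ring, cohomology with supports of `M~` and local cohomology of `M`.
-/

set_option autoImplicit false

universe u

open CategoryTheory CategoryTheory.Limits Opposite TopologicalSpace AlgebraicGeometry
open CategoryTheory.Abelian

namespace Groth.Agent.LCZ

open Groth.Agent.LocH

variable (A : Type u) [CommRing A]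

/-- The abelian sheaf of `M~`. -/
noncomputable abbrev tildeAb (M : Type u) [AddCommGroup M] [Module A M] :
    CohTop.Ab (Spec (CommRingCat.of A)).carrier :=
  Coh.toAb (EGA4.tildeOf A M)

variable {A}

/-- `D(f)`, as an open of the scheme. -/
noncomputable abbrev bo (f : A) : (Spec (CommRingCat.of A)).Opens := PrimeSpectrum.basicOpen f

theorem exists_eq_openCompl (U : (Spec (CommRingCat.of A)).Opens) :
    ∃ J : Ideal A, EGA4.openCompl A J = U := by
  let U₀ : Set (PrimeSpectrum A) := U.carrier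
  refine ⟨PrimeSpectrum.vanishingIdeal U₀ᶜ, Opens.ext ?_⟩
  show (PrimeSpectrum.zeroLocus _)ᶜ = U₀
  have hcl : IsClosed U₀ᶜ := U.2.isClosed_compl
  rw [PrimeSpectrum.zeroLocus_vanishingIdeal_eq_closure, hcl.closure_eq, compl_compl]

variable [IsNoetherianRing A]

theorem exists_secOf_eq {E : Type u} [AddCommGroup E] [Module A E] (hE : Injective (ModuleCat.of A E))
    (J : Ideal A) (s : Sec A E (EGA4.openCompl A J)) : ∃ e : E, secOf A E (EGA4.openCompl A J) e = s := by
  classical
  obtain ⟨G, hG⟩ := (IsNoetherian.noetherian J : J.FG)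
  have hGJ : ∀ f : G, (f : A) ∈ J := fun f => hG ▸ Submodule.subset_span f.2
  have hle := fun f : G => basicOpen_le_openCompl J (hGJ f)
  choose p hp using fun f : G => IsLocalizedModule.surj (Submonoid.powers (f : A))
    (secOf A E (bo (f : A))) (secRes A E (hle f) s)
  choose N hN using fun f : G => (p f).2.2
  let N₀ := Finset.univ.sup N
  have hex : ∀ f : G, ∃ e₀, (f : A) ^ N₀ • secRes A E (hle f) s = secOf A E (bo (f : A)) e₀ := by
    intro f
    refine ⟨(f : A) ^ (N₀ - N f) • (p f).1, ?_⟩
    have h1 : (((p f).2 : A)) • secRes A E (hle f) s = secOf A E _ (p f).1 := hp f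
    rw [show (((p f).2 : A)) = (f : A) ^ N f from (hN f).symm] at h1
    rw [map_smul, ← h1, ← mul_smul, ← pow_add, Nat.sub_add_cancel (Finset.le_sup (f := N) (Finset.mem_univ f))]
  choose e₀ he₀ using hex
  have hk : ∀ f g : G, ∃ k : ℕ, ((f : A) * g) ^ k • ((g : A) ^ N₀ • e₀ f - (f : A) ^ N₀ • e₀ g) = 0 := by
    intro f g
    have h1 : secOf A E (bo ((f : A) * g)) ((g : A) ^ N₀ • e₀ f - (f : A) ^ N₀ • e₀ g) = 0 := by
      have hres : ∀ (a : G) (h : bo ((f : A) * g) ≤ bo (a : A)),
          secOf A E (bo ((f : A) * g)) (e₀ a) = (a : A) ^ N₀ • secRes A E (h.trans (hle a)) s := by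
        intro a h
        have h2 := congrArg (secRes A E h) (he₀ a)
        rw [map_smul, secRes_secRes] at h2
        exact h2.symm
      rw [map_sub, map_smul (secOf A E _) ((g : A) ^ N₀) (e₀ f), map_smul (secOf A E _) ((f : A) ^ N₀) (e₀ g),
        hres f (PrimeSpectrum.basicOpen_mul_le_left (f : A) g), hres g (PrimeSpectrum.basicOpen_mul_le_right (f : A) g),
        smul_comm, sub_self]
    obtain ⟨⟨_, k, rfl⟩, hk⟩ := (IsLocalizedModule.eq_zero_iff (Submonoid.powers ((f : A) * g)) _).1 h1
    exact ⟨k, hk⟩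
  choose k hk using hk
  let k₀ := Finset.univ.sup fun fg : G × G => k fg.1 fg.2
  let n := N₀ + k₀
  obtain ⟨e, he_def⟩ : ∃ e : G → E, ∀ f : G, e f = (f : A) ^ k₀ • e₀ f := ⟨_, fun _ => rfl⟩
  have he : ∀ f : G, (f : A) ^ n • secRes A E (hle f) s = secOf A E (bo (f : A)) (e f) := by
    intro f
    rw [he_def]
    rw [map_smul, ← he₀, ← mul_smul, ← pow_add, Nat.add_comm]
  have hcomp : ∀ f g : G, (g : A) ^ n • e f = (f : A) ^ n • e g := by
    intro f g
    have hle' : k f g ≤ k₀ := Finset.le_sup (f := fun fg : G × G => k fg.1 fg.2) (Finset.mem_univ (f, g))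
    have h1 : ((f : A) * g) ^ k₀ • ((g : A) ^ N₀ • e₀ f - (f : A) ^ N₀ • e₀ g) = 0 := by
      rw [← Nat.sub_add_cancel hle', pow_add, mul_smul, hk, smul_zero]
    rw [smul_sub, sub_eq_zero, ← mul_smul, ← mul_smul] at h1
    rw [he_def, he_def, ← mul_smul, ← mul_smul]
    rw [show (g : A) ^ n * (f : A) ^ k₀ = ((f : A) * g) ^ k₀ * (g : A) ^ N₀ by rw [show n = N₀ + k₀ from rfl]; ring,
      show (f : A) ^ n * (g : A) ^ k₀ = ((f : A) * g) ^ k₀ * (f : A) ^ N₀ by rw [show n = N₀ + k₀ from rfl]; ring, h1]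
  let T := DRing.torsionSub J E
  have : Injective (ModuleCat.of A E) := hE
  have hT : Injective (ModuleCat.of A T) := injective_gammaI_obj J (ModuleCat.of A E)
  let ι : ModuleCat.of A T ⟶ ModuleCat.of A E := ModuleCat.ofHom T.subtype
  have : Mono ι := (ModuleCat.mono_iff_injective _).2 T.injective_subtype
  let r := Injective.factorThru (𝟙 _) ι
  have hr : ∀ t : T, r.hom (t : E) = t := fun t =>
    congrArg (fun φ : ModuleCat.of A T ⟶ ModuleCat.of A T => φ.hom t) (Injective.comp_factorThru (𝟙 _) ι)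
  let sec : (E ⧸ T) →ₗ[A] E := T.liftQ (LinearMap.id - T.subtype.comp r.hom) fun t ht => by
    show t - ((r.hom t : T) : E) = 0
    rw [hr ⟨t, ht⟩, sub_self]
  have hQ : Injective (ModuleCat.of A (E ⧸ T)) := Retract.injective
    { i := ModuleCat.ofHom sec
      r := ModuleCat.ofHom T.mkQ
      retract := by
        refine ModuleCat.hom_ext (Submodule.linearMap_qext _ (LinearMap.ext fun x => ?_))
        show Submodule.Quotient.mk (x - ((r.hom x : T) : E)) = Submodule.Quotient.mk x
        rw [Submodule.Quotient.eq, sub_sub_cancel_left]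
        exact T.neg_mem (r.hom x).2 }
  let L : (G → A) →ₗ[A] A := Fintype.linearCombination A fun f : G => (f : A) ^ n
  let P : (G → A) →ₗ[A] E ⧸ T := T.mkQ.comp (Fintype.linearCombination A e)
  have hker : LinearMap.ker L ≤ LinearMap.ker P := by
    intro c hc
    have hc' : ∑ f : G, c f * (f : A) ^ n = 0 := by simpa [L, Fintype.linearCombination_apply] using hc
    have hy : ∀ g : G, (g : A) ^ n • Fintype.linearCombination A e c = 0 := by
      intro g
      rw [Fintype.linearCombination_apply, Finset.smul_sum]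
      rw [Finset.sum_congr rfl fun f _ => show (g : A) ^ n • c f • e f = (c f * (f : A) ^ n) • e g by
        rw [smul_comm, hcomp f g, mul_smul]]
      rw [← Finset.sum_smul, hc', zero_smul]
    show T.mkQ (Fintype.linearCombination A e c) = 0
    refine (Submodule.Quotient.mk_eq_zero T).2 ((mem_torsionSub_iff_forall_pow J _).2 ?_)
    intro a ha
    let K : Ideal A := LinearMap.ker (LinearMap.toSpanSingleton A E (Fintype.linearCombination A e c))
    have hJ : J ≤ K.radical := hG ▸ Submodule.span_le.2 fun g hg => ⟨n, hy ⟨g, hg⟩⟩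
    exact hJ ha
  let L' := (LinearMap.ker L).liftQ L le_rfl
  have hL' : Mono (ModuleCat.ofHom L') :=
    (ModuleCat.mono_iff_injective _).2 (LinearMap.ker_eq_bot.1 (Submodule.ker_liftQ_eq_bot' _ _ rfl))
  let g' := Injective.factorThru (ModuleCat.ofHom ((LinearMap.ker L).liftQ P hker)) (ModuleCat.ofHom L')
  obtain ⟨x, hx⟩ := T.mkQ_surjective (g'.hom 1)
  have hxf : ∀ f : G, (f : A) ^ n • x - e f ∈ T := by
    intro f
    rw [← Submodule.Quotient.eq, Submodule.Quotient.mk_smul]
    have h1 := congrArg (fun φ => φ.hom (Submodule.Quotient.mk (Pi.single f 1)))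
      (Injective.comp_factorThru (ModuleCat.ofHom ((LinearMap.ker L).liftQ P hker)) (ModuleCat.ofHom L'))
    have h2 : g'.hom (L (Pi.single f 1)) = P (Pi.single f 1) := h1
    rw [show L (Pi.single f 1) = (f : A) ^ n • (1 : A) by
        simp [L, Fintype.linearCombination_apply, Pi.single_apply, ite_smul], map_smul, ← hx] at h2
    refine h2.trans ?_
    simp [P, Fintype.linearCombination_apply, Pi.single_apply, ite_smul]
  refine ⟨x, TopCat.Sheaf.eq_of_locally_eq' (secSheaf A E) (fun f : G => bo (f : A)) _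
    (fun f => homOfLE (hle f)) ?_ _ _ fun f => ?_⟩
  · intro q hq
    obtain ⟨a, ha, haq⟩ := Set.not_subset.1 hq
    by_contra hcon
    refine haq ((hG ▸ Submodule.span_le.2 fun g hg => ?_ : J ≤ q.asIdeal) ha)
    by_contra hgq
    exact hcon (Opens.mem_iSup.2 ⟨⟨g, hg⟩, hgq⟩)
  · change secRes A E (hle f) (secOf A E _ x) = secRes A E (hle f) s
    rw [secRes_secOf]
    refine IsLocalizedModule.smul_injective (secOf A E (bo (f : A)))
      (⟨(f : A) ^ n, n, rfl⟩ : Submonoid.powers (f : A)) ?_
    show (f : A) ^ n • secOf A E _ x = (f : A) ^ n • secRes A E (hle f) s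
    rw [he, ← map_smul, ← sub_eq_zero, ← map_sub]
    obtain ⟨j, hj⟩ := (mem_torsionSub_iff_forall_pow J _).1 (hxf f) (f : A) (hGJ f)
    exact (IsLocalizedModule.eq_zero_iff (Submonoid.powers (f : A)) _).2 ⟨⟨_, j, rfl⟩, hj⟩

theorem secOf_top_bijective (M : Type u) [AddCommGroup M] [Module A M] : Function.Bijective (secOf A M ⊤) :=
  (tilde.isoTop (R := CommRingCat.of A) (ModuleCat.of (CommRingCat.of A) M)).toLinearEquiv.bijective

theorem isFlasque_tildeAb {E : Type u} [AddCommGroup E] [Module A E] (hE : Injective (ModuleCat.of A E)) :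
    TopCat.Sheaf.IsFlasque (tildeAb A E) := by
  refine (epi_res_iff _).2 fun V V' h t => ?_
  obtain ⟨J, rfl⟩ := exists_eq_openCompl V'
  obtain ⟨e, he⟩ := exists_secOf_eq hE J t
  exact ⟨secOf A E V e, (secRes_secOf h e).trans he⟩

theorem secRes_secOf_eq_zero_iff {M : Type u} [AddCommGroup M] [Module A M] (J : Ideal A) (m : M) :
    res (tildeAb A M) (le_top : EGA4.openCompl A J ≤ ⊤) (secOf A M ⊤ m) = 0 ↔ m ∈ DRing.torsionSub J M := by
  rw [mem_torsionSub_iff_forall_pow, ← secOf_openCompl_eq_zero_iff]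
  rfl

variable (J : Ideal A)

theorem subsingleton_HZc_zero_iff (M : Type u) [AddCommGroup M] [Module A M] :
    Subsingleton (LocCohZ.HZc (tildeAb A M) 0 (EGA4.openCompl A J)) ↔ Subsingleton (LocCoh.H J 0 M) := by
  rw [(LocCohZ.sect0Equiv (tildeAb A M) _).toEquiv.subsingleton_congr,
    ((zeroIso J).app (ModuleCat.of A M)).toLinearEquiv.toEquiv.subsingleton_congr]
  constructor
  · intro _
    show Subsingleton (DRing.torsionSub J M)
    refine ⟨fun (x y : DRing.torsionSub J M) => Subtype.ext ((secOf_top_bijective (A := A) M).1 ?_)⟩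
    exact congrArg Subtype.val (Subsingleton.elim
      (⟨secOf A M ⊤ x.1, (secRes_secOf_eq_zero_iff J x.1).2 x.2⟩ : LocCohZ.sectZ (tildeAb A M) (le_top : EGA4.openCompl A J ≤ ⊤))
      ⟨secOf A M ⊤ y.1, (secRes_secOf_eq_zero_iff J y.1).2 y.2⟩)
  · intro _
    refine ⟨fun x y => Subtype.ext ?_⟩
    obtain ⟨a, ha⟩ := (secOf_top_bijective M).2 x.1
    obtain ⟨b, hb⟩ := (secOf_top_bijective M).2 y.1
    have hx : a ∈ DRing.torsionSub J M := (secRes_secOf_eq_zero_iff J a).1 ((congrArg _ ha).trans x.2)
    have hy : b ∈ DRing.torsionSub J M := (secRes_secOf_eq_zero_iff J b).1 ((congrArg _ hb).trans y.2)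
    have e : (⟨a, hx⟩ : DRing.torsionSub J M) = ⟨b, hy⟩ :=
      Subsingleton.elim (α := ↑((DRing.gammaI J).obj (ModuleCat.of A M))) _ _
    rw [← ha, ← hb]
    exact congrArg (fun z : DRing.torsionSub J M => secOf A M ⊤ z.1) e

/-- Underlying abelian sheaves of modules on a scheme. -/
noncomputable def toSheafS (X : Scheme.{u}) : X.Modules ⥤ CohTop.Ab X.carrier :=
  SheafOfModules.toSheaf.{u} X.ringCatSheaf

instance toSheafS_additive (X : Scheme.{u}) : (toSheafS X).Additive :=
  (inferInstance : (SheafOfModules.toSheaf.{u} X.ringCatSheaf).Additive)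

instance toSheafS_preservesFiniteLimits (X : Scheme.{u}) : PreservesFiniteLimits (toSheafS X) :=
  (inferInstance : PreservesFiniteLimits (SheafOfModules.toSheaf.{u} X.ringCatSheaf))

instance toSheafS_preservesFiniteColimits (X : Scheme.{u}) : PreservesFiniteColimits (toSheafS X) :=
  (inferInstance : PreservesFiniteColimits (SheafOfModules.toSheaf.{u} X.ringCatSheaf))

/-- `M ↦ M~` into abelian sheaves, over a bundled ring. -/
noncomputable abbrev tildeAbR (R : CommRingCat.{u}) : ModuleCat.{u} R ⥤ CohTop.Ab (Spec R).carrier :=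
  tilde.functor R ⋙ toSheafS (Spec R)

theorem tildeAbR_additive (R : CommRingCat.{u}) : (tildeAbR R).Additive := inferInstance

theorem tildeAbR_preservesFiniteLimits (R : CommRingCat.{u}) : PreservesFiniteLimits (tildeAbR R) :=
  comp_preservesFiniteLimits (tilde.functor R) (toSheafS (Spec R))

theorem tildeAbR_preservesFiniteColimits (R : CommRingCat.{u}) : PreservesFiniteColimits (tildeAbR R) :=
  comp_preservesFiniteColimits (tilde.functor R) (toSheafS (Spec R))

/-- The functor `M ↦ M~` into abelian sheaves. -/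
noncomputable abbrev tildeAbF : ModuleCat.{u} A ⥤ CohTop.Ab (Spec (CommRingCat.of A)).carrier :=
  tildeAbR (CommRingCat.of A)

instance tildeAbF_additive : (tildeAbF (A := A)).Additive := tildeAbR_additive _

instance tildeAbF_preservesFiniteLimits : PreservesFiniteLimits (tildeAbF (A := A)) :=
  tildeAbR_preservesFiniteLimits _

instance tildeAbF_preservesFiniteColimits : PreservesFiniteColimits (tildeAbF (A := A)) :=
  tildeAbR_preservesFiniteColimits _

theorem tildeAbF_shortExact {S : ShortComplex (ModuleCat.{u} A)} (hS : S.ShortExact) :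
    (S.map tildeAbF).ShortExact :=
  hS.map_of_exact tildeAbF

theorem tildeAbF_map_secOf {M N : ModuleCat.{u} A} (f : M ⟶ N) (U : (Spec (CommRingCat.of A)).Opens) (m : M) :
    (tildeAbF.map f).hom.app (op U) (secOf A M U m) = secOf A N U (f m) :=
  Groth.Agent.QC.toOpen_map_apply (R := CommRingCat.of A) f U m

theorem zeroIso_natural {M N : ModuleCat.{u} A} (f : M ⟶ N) (x : ↑((localCohomology J 0).obj M)) :
    (((zeroIso J).hom.app N) ((localCohomology J 0).map f x) : ↥(DRing.torsionSub J N)).1 =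
      f ((((zeroIso J).hom.app M) x : ↥(DRing.torsionSub J M)).1) :=
  congrArg Subtype.val (congrArg (fun φ => φ.hom x) ((zeroIso J).hom.naturality f))

theorem subsingleton_HZc_iff (i : ℕ) (M : ModuleCat.{u} A) :
    Subsingleton (LocCohZ.HZc (tildeAb A M) i (EGA4.openCompl A J)) ↔
      Subsingleton ↑((localCohomology J i).obj M) := by
  induction i generalizing M with
  | zero => exact subsingleton_HZc_zero_iff J M
  | succ i IH =>
    let S := SiteCoh.embedSeq M
    have hS : S.ShortExact := SiteCoh.embedSeq_shortExact M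
    have hS' := tildeAbF_shortExact hS
    have hE : Injective (ModuleCat.of A S.X₂) := SiteCoh.embedSeq_injective M
    have : TopCat.Sheaf.IsFlasque (tildeAb A S.X₂) := isFlasque_tildeAb hE
    have hac : ∀ n, Subsingleton (LocCohZ.HZc (tildeAb A S.X₂) (n + 1) (EGA4.openCompl A J)) :=
      fun n => subsingleton_HZ_of_isFlasque _ n
    have hHE : ∀ n, Subsingleton ↑((localCohomology J (n + 1)).obj S.X₂) :=
      fun n => subsingleton_of_injective _ n
    let P := LocCohZ.zq (le_top : EGA4.openCompl A J ≤ (⊤ : (Spec (CommRingCat.of A)).Opens))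
    have h1 : Subsingleton (Ext P (S.map tildeAbF).X₂ (i + 1)) := hac i
    rcases i with _ | i
    · constructor
      · intro hM
        have h2 : Subsingleton (Ext P (S.map tildeAbF).X₁ 1) := hM
        refine subsingleton_of_forall_eq 0 fun x => ?_
        obtain ⟨y, rfl⟩ := exact₁ hS 0 (x := x) ((hHE 0).elim _ _)
        obtain ⟨q, hq⟩ : ∃ q : DRing.torsionSub J S.X₃, q = ((zeroIso J).hom.app S.X₃) y := ⟨_, rfl⟩
        obtain ⟨ψ, hψ⟩ := SiteCoh.exists_lift_of_subsingleton_ext_one hS' P
          (zqHom (le_top : EGA4.openCompl A J ≤ ⊤) (secOf A S.X₃ ⊤ q.1) ((secRes_secOf_eq_zero_iff J q.1).2 q.2))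
        obtain ⟨m, hm⟩ := (secOf_top_bijective S.X₂).2 (zqSec (le_top : EGA4.openCompl A J ≤ ⊤) ψ)
        have hmT : m ∈ DRing.torsionSub J S.X₂ := (secRes_secOf_eq_zero_iff J m).1
          ((congrArg _ hm).trans (res_zqSec _ ψ))
        have hgm : S.g m = q.1 := (secOf_top_bijective S.X₃).1 (by
          refine (tildeAbF_map_secOf S.g ⊤ m).symm.trans ((congrArg _ hm).trans ?_)
          refine (zqSec_comp _ ψ _).symm.trans ?_
          exact (congrArg (zqSec _) hψ).trans (zqSec_zqHom _ _ _))
        let e := (((zeroIso J).app S.X₂).toLinearEquiv)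
        obtain ⟨y', hy'⟩ : ∃ y', e y' = ⟨m, hmT⟩ := ⟨e.symm _, e.apply_symm_apply _⟩
        have : (localCohomology J 0).map S.g y' = y :=
          ((zeroIso J).app S.X₃).toLinearEquiv.injective (Subtype.ext (by
            refine (zeroIso_natural J S.g y').trans ?_
            rw [show ((zeroIso J).hom.app S.X₂) y' = (⟨m, hmT⟩ : DRing.torsionSub J S.X₂) from hy']
            exact hgm.trans (congrArg Subtype.val hq)))
        rw [← this]
        exact delta_map hS 0 y'
      · intro hM
        refine SiteCoh.subsingleton_ext_one_of_lift hS' P fun φ => ?_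
        obtain ⟨q, hq⟩ := (secOf_top_bijective S.X₃).2 (zqSec (le_top : EGA4.openCompl A J ≤ ⊤) φ)
        have hqT : q ∈ DRing.torsionSub J S.X₃ := (secRes_secOf_eq_zero_iff J q).1
          ((congrArg _ hq).trans (res_zqSec _ φ))
        let e := (((zeroIso J).app S.X₃).toLinearEquiv)
        obtain ⟨y', hy'⟩ := exact₃ hS 0 (x := e.symm ⟨q, hqT⟩) (hM.elim _ _)
        let m : DRing.torsionSub J S.X₂ := ((zeroIso J).hom.app S.X₂) y'
        have hgm : S.g m.1 = q := by
          refine (zeroIso_natural J S.g y').symm.trans ?_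
          rw [hy']
          exact congrArg Subtype.val (e.apply_symm_apply ⟨q, hqT⟩)
        refine ⟨zqHom (le_top : EGA4.openCompl A J ≤ ⊤) (secOf A S.X₂ ⊤ m.1) ((secRes_secOf_eq_zero_iff J m.1).2 m.2), zqSec_injective _ ?_⟩
        rw [zqSec_comp, zqSec_zqHom]
        refine Eq.trans ?_ hq
        exact (tildeAbF_map_secOf S.g ⊤ m.1).trans (congrArg (secOf A S.X₃ ⊤) hgm)
    · have h0 : Subsingleton (Ext P (S.map tildeAbF).X₂ (i + 1)) := hac i
      have ih := IH S.X₃
      constructor
      · intro hM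
        have h2 : Subsingleton (Ext P (S.map tildeAbF).X₁ (i + 1 + 1)) := hM
        have h3 : Subsingleton (Ext P (S.map tildeAbF).X₃ (i + 1)) := SiteCoh.subsingleton_ext_quotient hS' P (i + 1)
        exact subsingleton_X₁ hS (i + 1) (hHE (i + 1)) (ih.1 h3)
      · intro hM
        have h3 : Subsingleton (Ext P (S.map tildeAbF).X₃ (i + 1)) := ih.2 (subsingleton_X₃ hS (i + 1) (hHE i) hM)
        exact SiteCoh.subsingleton_ext_succ hS' P (i + 1)

end Groth.Agent.LCZ
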