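import Mathlib
import Groth.Agent.LCZ.Classes
import Groth.Agent.SiteCoh.AcyclicCx

/-!
Vanishing of the local cohomology sheaves.
-/

set_option autoImplicit false

universe u

open CategoryTheory CategoryTheory.Limits Opposite TopologicalSpace
open CategoryTheory.Abelian

namespace Groth.Agent.LCZ

open Groth.Agent.SiteCoh

variable {X : TopCat.{u}}

section Complex

variable (K : CochainComplex (CohTop.Ab X) ℕ)

theorem iCycles_injective (n : ℕ) (V : Opens X) : Function.Injective ((K.iCycles n).hom.app (op V)) :=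
  app_injective_of_mono _ V

theorem toCycles_iCycles_apply (i n : ℕ) (V : Opens X) (x : (K.X i).obj.obj (op V)) :
    (K.iCycles n).hom.app (op V) ((K.toCycles i n).hom.app (op V) x) = (K.d i n).hom.app (op V) x :=
  congrArg (fun φ : K.X i ⟶ K.X n => φ.hom.app (op V) x) (K.toCycles_i i n)

theorem d_iCycles_apply (n : ℕ) (V : Opens X) (z : (K.cycles n).obj.obj (op V)) :
    (K.d n (n + 1)).hom.app (op V) ((K.iCycles n).hom.app (op V) z) = 0 :=
  congrArg (fun φ : K.cycles n ⟶ K.X (n + 1) => φ.hom.app (op V) z) (K.iCycles_d n (n + 1))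

theorem epi_toCycles_of_isZero {i n : ℕ} (hin : i + 1 = n) (h : IsZero (K.homology n)) :
    Epi (K.toCycles i n) :=
  Preadditive.epi_of_isZero_cokernel _ (h.of_iso
    (IsColimit.coconePointUniqueUpToIso (cokernelIsCokernel _)
      (K.homologyIsCokernel i n (by simp [← hin]))))

theorem isZero_homology_succ_iff (n : ℕ) : IsZero (K.homology (n + 1)) ↔
    ∀ (V : Opens X) (s : (K.X (n + 1)).obj.obj (op V)), (K.d (n + 1) (n + 1 + 1)).hom.app (op V) s = 0 →
      ∀ x ∈ V, ∃ (V' : Opens X) (hV : V' ≤ V), x ∈ V' ∧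
        ∃ t, (K.d n (n + 1)).hom.app (op V') t = res _ hV s := by
  constructor
  · intro h V s hs x hx
    have := epi_toCycles_of_isZero K rfl h
    have hl : Sheaf.IsLocallySurjective (K.toCycles n (n + 1)) :=
      (Sheaf.isLocallySurjective_iff_epi' _ _).mpr inferInstance
    obtain ⟨z, rfl⟩ := exists_cycle_section (U := V) K (n + 1) s hs
    obtain ⟨V', f, ⟨t, ht⟩, hxV⟩ := (Opens.mem_grothendieckTopology ↑X).1
      (Presheaf.imageSieve_mem _ (K.toCycles n (n + 1)).hom (U := op V) z) x hx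
    refine ⟨V', leOfHom f, hxV, t, ?_⟩
    rw [← toCycles_iCycles_apply]
    exact (congrArg ((K.iCycles (n + 1)).hom.app (op V')) ht).trans (app_res (K.iCycles (n + 1)) (leOfHom f) z)
  · intro H
    have : Sheaf.IsLocallySurjective (K.toCycles n (n + 1)) := ⟨fun {V} z => by
      rw [Opens.mem_grothendieckTopology]
      intro x hx
      obtain ⟨V', hV, hxV, t, ht⟩ := H V _ (d_iCycles_apply K (n + 1) V z) x hx
      refine ⟨V', homOfLE hV, ⟨t, iCycles_injective K (n + 1) V' ?_⟩, hxV⟩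
      exact ((toCycles_iCycles_apply K n (n + 1) V' t).trans ht).trans (app_res (K.iCycles (n + 1)) hV z).symm⟩
    have : Epi (K.toCycles n (n + 1)) := (Sheaf.isLocallySurjective_iff_epi' _ _).mp inferInstance
    rw [IsZero.iff_id_eq_zero, ← cancel_epi (K.homologyπ (n + 1)), ← cancel_epi (K.toCycles n (n + 1))]
    simp

theorem isZero_homology_zero_iff : IsZero (K.homology 0) ↔
    ∀ (V : Opens X) (s : (K.X 0).obj.obj (op V)), (K.d 0 (0 + 1)).hom.app (op V) s = 0 → s = 0 := by
  constructor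
  · intro h V s hs
    obtain ⟨z, rfl⟩ := exists_cycle_section (U := V) K 0 s hs
    have hz : IsZero (K.cycles 0) := h.of_iso (asIso (K.homologyπ 0))
    have e : z = 0 := congrArg (fun φ : K.cycles 0 ⟶ K.cycles 0 => φ.hom.app (op V) z) (hz.eq_of_src (𝟙 _) 0)
    rw [e, map_zero]
  · intro H
    refine IsZero.of_iso ?_ (asIso (K.homologyπ 0)).symm
    rw [IsZero.iff_id_eq_zero]
    refine Sheaf.hom_ext (NatTrans.ext (funext fun V => AddCommGrpCat.hom_ext (AddMonoidHom.ext fun z => ?_)))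
    refine iCycles_injective K 0 V.unop ?_
    exact ((congrArg ((K.iCycles 0).hom.app V) (rfl : _ = z)).trans (H V.unop _ (d_iCycles_apply K 0 V.unop z))).trans
      (map_zero _).symm

theorem isFlasque_of_isZero {G : CohTop.Ab X} (hG : IsZero G) : TopCat.Sheaf.IsFlasque G :=
  (epi_res_iff G).2 fun V V' h y => ⟨0, by
    rw [map_zero]
    exact (congrArg (fun φ : G ⟶ G => φ.hom.app (op V') y) (hG.eq_of_src (𝟙 G) 0)).symm⟩

/-- Cycles of a complex of flasque sheaves, exact in low degrees, are flasque and are the images of sections. -/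
theorem cycles_flasque (hK : ∀ n, TopCat.Sheaf.IsFlasque (K.X n)) {n : ℕ}
    (hH : ∀ i, i < n → IsZero (K.homology i)) : ∀ k, k < n →
      TopCat.Sheaf.IsFlasque (K.cycles k) ∧
        ∀ (V : Opens X) (s : (K.X k).obj.obj (op V)), (K.d k (k + 1)).hom.app (op V) s = 0 →
          k = 0 ∧ s = 0 ∨ ∃ j, j + 1 = k ∧ ∃ t, (K.d j k).hom.app (op V) t = s
  | 0, hk => ⟨isFlasque_of_isZero ((hH 0 hk).of_iso (asIso (K.homologyπ 0))), fun V s hs =>
      Or.inl ⟨rfl, (isZero_homology_zero_iff K).1 (hH 0 hk) V s hs⟩⟩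
  | k + 1, hk => by
    have hprev := (cycles_flasque hK hH k (by omega)).1
    have := hK k
    have hepi := epi_toCycles_of_isZero K rfl (hH (k + 1) hk)
    let S : ShortComplex (CohTop.Ab X) := ShortComplex.mk (K.iCycles k) (K.toCycles k (k + 1))
      (by rw [← cancel_mono (K.iCycles (k + 1)), Category.assoc, HomologicalComplex.toCycles_i,
        HomologicalComplex.iCycles_d, zero_comp])
    have hS : S.ShortExact :=
      { exact := ShortComplex.exact_of_f_is_kernel _ (KernelFork.IsLimit.ofι' _ _ fun {W} g hg =>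
          ⟨K.liftCycles g (k + 1) (by simp) (by
              rw [← HomologicalComplex.toCycles_i, ← Category.assoc]
              exact (congr_arg (· ≫ K.iCycles (k + 1)) hg).trans zero_comp),
            K.liftCycles_i _ _ _ _⟩)
        mono_f := inferInstanceAs (Mono (K.iCycles k))
        epi_g := hepi }
    have : TopCat.Sheaf.IsFlasque S.X₁ := hprev
    have : TopCat.Sheaf.IsFlasque S.X₂ := hK k
    refine ⟨TopCat.Sheaf.IsFlasque.of_shortExact_of_isFlasque₁₂ hS, fun V s hs => Or.inr ⟨k, rfl, ?_⟩⟩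
    obtain ⟨z, rfl⟩ := exists_cycle_section (U := V) K (k + 1) s hs
    obtain ⟨t, ht⟩ := (AddCommGrpCat.epi_iff_surjective _).mp
      (TopCat.Sheaf.IsFlasque.epi_of_shortExact (U := V) hS) z
    exact ⟨t, (toCycles_iCycles_apply K k (k + 1) V t).symm.trans (congrArg _ ht)⟩

end Complex

variable (U : Opens X) {F : CohTop.Ab X} (R : InjectiveResolution F)

/-- The complex of sections with supports of an injective resolution. -/
noncomputable abbrev suppCx : CochainComplex (CohTop.Ab X) ℕ :=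
  ((LocCohZ.sectSuppF U).mapHomologicalComplex (ComplexShape.up ℕ)).obj R.cocomplex

/-- `ℋ^n_Z F` is the homology of the sections with supports of an injective resolution. -/
noncomputable def hzshIso (n : ℕ) : (LocCohZ.HZsh U n).obj F ≅ (suppCx U R).homology n :=
  R.isoRightDerivedObj (LocCohZ.sectSuppF U) n

theorem isFlasque_suppCx (n : ℕ) : TopCat.Sheaf.IsFlasque ((suppCx U R).X n) := by
  have : TopCat.Sheaf.IsFlasque (R.cocomplex.X n) := SiteCoh.injective_isFlasque _
  exact isFlasque_sectSupp U (R.cocomplex.X n)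

theorem suppι_d (n m : ℕ) (V : Opens X) (t : ((suppCx U R).X n).obj.obj (op V)) :
    (suppι U (R.cocomplex.X m)).hom.app (op V) (((suppCx U R).d n m).hom.app (op V) t) =
      dsec R n m V ((suppι U (R.cocomplex.X n)).hom.app (op V) t) :=
  suppι_map_apply U (R.cocomplex.d n m) t

theorem res_inf_of_res {G : CohTop.Ab X} {V V' : Opens X} (hV : V' ≤ V) {s : G.obj.obj (op V)}
    (hs : res G (inf_le_left : V ⊓ U ≤ V) s = 0) :
    res G (inf_le_left : V' ⊓ U ≤ V') (res G hV s) = 0 := by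
  rw [res_res, ← res_res G (inf_le_left : V ⊓ U ≤ V) (inf_le_inf_right U hV), hs, map_zero]

theorem isZero_HZsh_succ_iff (n : ℕ) : IsZero ((LocCohZ.HZsh U (n + 1)).obj F) ↔
    ∀ (V : Opens X) (s : (R.cocomplex.X (n + 1)).obj.obj (op V)),
      res _ (inf_le_left : V ⊓ U ≤ V) s = 0 → dsec R (n + 1) (n + 1 + 1) V s = 0 →
      ∀ x ∈ V, ∃ (V' : Opens X) (hV : V' ≤ V), x ∈ V' ∧
        ∃ t, res _ (inf_le_left : V' ⊓ U ≤ V') t = 0 ∧ dsec R n (n + 1) V' t = res _ hV s := by
  rw [(hzshIso U R (n + 1)).isZero_iff, isZero_homology_succ_iff]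
  constructor
  · intro H V s hs hd x hx
    obtain ⟨s', rfl⟩ := exists_suppι U hs
    obtain ⟨V', hV, hxV, t, ht⟩ := H V s'
      (suppι_injective U _ V ((suppι_d U R _ _ V s').trans (hd.trans (map_zero _).symm))) x hx
    refine ⟨V', hV, hxV, _, res_suppι U _ t, ?_⟩
    exact (suppι_d U R _ _ V' t).symm.trans ((congrArg _ ht).trans (app_res (suppι U (R.cocomplex.X (n + 1))) hV s'))
  · intro H V s hs x hx
    obtain ⟨V', hV, hxV, t, ht, htd⟩ := H V _ (res_suppι U _ s)
      ((suppι_d U R _ _ V s).symm.trans ((congrArg _ hs).trans (map_zero _))) x hx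
    obtain ⟨t', rfl⟩ := exists_suppι U ht
    exact ⟨V', hV, hxV, t', suppι_injective U _ V'
      (((suppι_d U R _ _ V' t').trans htd).trans (app_res (suppι U (R.cocomplex.X (n + 1))) hV s).symm)⟩

theorem isZero_HZsh_zero_iff : IsZero ((LocCohZ.HZsh U 0).obj F) ↔
    ∀ (V : Opens X) (s : (R.cocomplex.X 0).obj.obj (op V)),
      res _ (inf_le_left : V ⊓ U ≤ V) s = 0 → dsec R 0 (0 + 1) V s = 0 → s = 0 := by
  rw [(hzshIso U R 0).isZero_iff, isZero_homology_zero_iff]
  constructor
  · intro H V s hs hd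
    obtain ⟨s', rfl⟩ := exists_suppι U hs
    rw [H V s' (suppι_injective U _ V ((suppι_d U R _ _ V s').trans (hd.trans (map_zero _).symm)))]
    exact map_zero _
  · intro H V s hs
    refine suppι_injective U _ V ((H V _ (res_suppι U _ s) ?_).trans (map_zero _).symm)
    exact (suppι_d U R _ _ V s).symm.trans ((congrArg _ hs).trans (map_zero _))

/-- Vanishing of all `H^i_Z(V, F)` for `i < n` from the vanishing of the sheaves. -/
theorem subsingleton_HZ_of_isZero {n : ℕ} (hH : ∀ i, i < n → IsZero ((LocCohZ.HZsh U i).obj F))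
    (V : Opens X) {i : ℕ} (hi : i < n) : Subsingleton (LocCohZ.HZ F i (inf_le_left : V ⊓ U ≤ V)) := by
  obtain ⟨R⟩ : Nonempty (InjectiveResolution F) := ⟨injectiveResolution F⟩
  have hH' : ∀ j, j < n → IsZero ((suppCx U R).homology j) :=
    fun j hj => (hH j hj).of_iso (hzshIso U R j).symm
  have key := (cycles_flasque (suppCx U R) (isFlasque_suppCx U R) hH' i hi).2 V
  rcases i with _ | p
  · rw [subsingleton_zero_iff _ R]
    exact (isZero_HZsh_zero_iff U R).1 (hH 0 hi) V
  · rw [subsingleton_succ_iff _ R]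
    intro s hs hd
    obtain ⟨s', rfl⟩ := exists_suppι U hs
    rcases key s' (suppι_injective U _ V ((suppι_d U R _ _ V s').trans (hd.trans (map_zero _).symm))) with
      ⟨h0, -⟩ | ⟨j, hj, t, ht⟩
    · omega
    · obtain rfl : j = p := by omega
      exact ⟨_, res_suppι U _ t, (suppι_d U R _ _ V t).symm.trans (congrArg _ ht)⟩

/-- The sheaf vanishes as soon as classes with supports vanish locally. -/
theorem isZero_HZsh_of_subsingleton {i : ℕ}
    (H : ∀ (V : Opens X), ∀ x ∈ V, ∃ V' : Opens X, x ∈ V' ∧ V' ≤ V ∧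
      Subsingleton (LocCohZ.HZ F i (inf_le_left : V' ⊓ U ≤ V'))) :
    IsZero ((LocCohZ.HZsh U i).obj F) := by
  obtain ⟨R⟩ : Nonempty (InjectiveResolution F) := ⟨injectiveResolution F⟩
  rcases i with _ | p
  · rw [isZero_HZsh_zero_iff U R]
    intro V s hs hd
    refine TopCat.Presheaf.IsSheaf.section_ext (R.cocomplex.X 0).property fun x hx => ?_
    obtain ⟨V', hxV, hV, hsub⟩ := H V x hx
    refine ⟨V', hV, hxV, ?_⟩
    rw [map_zero]
    exact (subsingleton_zero_iff _ R).1 hsub _ (res_inf_of_res U hV hs) (res_closed R hV hd)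
  · rw [isZero_HZsh_succ_iff U R]
    intro V s hs hd x hx
    obtain ⟨V', hxV, hV, hsub⟩ := H V x hx
    exact ⟨V', hV, hxV, (subsingleton_succ_iff _ R).1 hsub _ (res_inf_of_res U hV hs) (res_closed R hV hd)⟩

theorem isZero_below_iff (n : ℕ) : (∀ i, i < n → IsZero ((LocCohZ.HZsh U i).obj F)) ↔
    ∀ (V : Opens X) (i : ℕ), i < n → Subsingleton (LocCohZ.HZ F i (inf_le_left : V ⊓ U ≤ V)) :=
  ⟨fun h V _ hi => subsingleton_HZ_of_isZero U h V hi,
    fun h i hi => isZero_HZsh_of_subsingleton U fun V _ hx => ⟨V, hx, le_rfl, h V i hi⟩⟩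

theorem isZero_HZsh_of_isFlasque [TopCat.Sheaf.IsFlasque F] {i : ℕ} (hi : 0 < i) :
    IsZero ((LocCohZ.HZsh U i).obj F) := by
  obtain ⟨p, rfl⟩ : ∃ p, i = p + 1 := ⟨i - 1, by omega⟩
  exact isZero_HZsh_of_subsingleton U fun V _ hx => ⟨V, hx, le_rfl, subsingleton_HZ_of_isFlasque _ p⟩

/-- If `H^{p+1}_Z` injects into cohomology on every open, the sheaf `ℋ^{p+1}_Z` vanishes. -/
theorem isZero_HZsh_of_toHU_injective {p : ℕ}
    (H : ∀ V : Opens X, Function.Injective (LocCohZ.toHU F (p + 1) (inf_le_left : V ⊓ U ≤ V))) :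
    IsZero ((LocCohZ.HZsh U (p + 1)).obj F) := by
  obtain ⟨R⟩ : Nonempty (InjectiveResolution F) := ⟨injectiveResolution F⟩
  rw [isZero_HZsh_succ_iff U R]
  intro V s hs hd x hx
  have hex : IsZero (R.cocomplex.homology (p + 1)) := (R.cocomplex_exactAt_succ p).isZero_homology
  obtain ⟨V', hV, hxV, t, ht⟩ := (isZero_homology_succ_iff R.cocomplex p).1 hex V s hd x hx
  refine ⟨V', hV, hxV, ?_⟩
  rw [← clZ_eq_zero_iff (inf_le_left : V' ⊓ U ≤ V') R (res _ hV s) (res_inf_of_res U hV hs) (res_closed R hV hd)]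
  refine H V' ((toHU_clZ _ R _ _ _).trans ?_)
  rw [map_zero]
  exact (secClass_zero_iff R _ _).2 ⟨t, ht⟩

end Groth.Agent.LCZ
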