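import Mathlib
import Groth.Agent.LCZ.Classes

/-!
Cohomology with supports and restriction along an open embedding.
-/

set_option autoImplicit false

universe u

open CategoryTheory CategoryTheory.Limits Opposite TopologicalSpace
open CategoryTheory.Abelian

namespace Groth.Agent.LCZ

open Groth.Agent.SiteCoh

variable {X Y : TopCat.{u}} {f : Y ⟶ X} (hf : Topology.IsOpenEmbedding f)

/-- Restriction of abelian sheaves along an open embedding. -/
noncomputable abbrev restrE : CohTop.Ab X ⥤ CohTop.Ab Y :=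
  haveI := Topology.IsOpenEmbedding.functor_isContinuous hf
  hf.functor.sheafPushforwardContinuous AddCommGrpCat.{u} (Opens.grothendieckTopology Y) (Opens.grothendieckTopology X)

instance restrE_additive : (restrE hf).Additive where

instance restrE_preservesEpimorphisms : (restrE hf).PreservesEpimorphisms where
  preserves {F G} φ hφ := by
    have hl : Sheaf.IsLocallySurjective φ := (Sheaf.isLocallySurjective_iff_epi' _ _).mpr hφ
    refine (Sheaf.isLocallySurjective_iff_epi' _ _).mp ⟨fun {V} s => ?_⟩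
    rw [Opens.mem_grothendieckTopology]
    intro y hy
    obtain ⟨W, g, ⟨t, ht⟩, hyW⟩ := (Opens.mem_grothendieckTopology ↑X).1
      (Presheaf.imageSieve_mem _ φ.hom (U := op (hf.functor.obj V)) s) (f y) ⟨y, hy, rfl⟩
    have hle : (Opens.map f).obj W ≤ V := fun z hz => by
      obtain ⟨w, hw, e⟩ := leOfHom g hz
      exact hf.injective e ▸ hw
    have hle' : hf.functor.obj ((Opens.map f).obj W) ≤ W := fun z ⟨w, hw, e⟩ => e ▸ hw
    refine ⟨(Opens.map f).obj W, homOfLE hle, ⟨res F hle' t, ?_⟩, hyW⟩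
    refine (app_res φ hle' t).trans ((congrArg (res G hle') ht).trans ?_)
    exact (res_res G (leOfHom g) hle' s).trans rfl

instance restrE_preservesFiniteLimits : PreservesFiniteLimits (restrE hf) := by
  have : (restrE hf).IsRightAdjoint := by
    have := Topology.IsOpenEmbedding.functor_isContinuous hf
    exact inferInstanceAs ((hf.functor.sheafPushforwardContinuous AddCommGrpCat.{u}
      (Opens.grothendieckTopology Y) (Opens.grothendieckTopology X)).IsRightAdjoint)
  have : PreservesLimitsOfSize.{0, 0} (restrE hf) := inferInstance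
  exact inferInstance

instance restrE_preservesFiniteColimits : PreservesFiniteColimits (restrE hf) := by
  have := Functor.preservesHomology_of_preservesEpis_and_kernels (restrE hf)
  exact Functor.preservesFiniteColimits_of_preservesHomology (restrE hf)

theorem isFlasque_restrE (F : CohTop.Ab X) [TopCat.Sheaf.IsFlasque F] :
    TopCat.Sheaf.IsFlasque ((restrE hf).obj F) :=
  (epi_res_iff _).2 fun _ _ h => res_surjective F (leOfHom (hf.functor.map (homOfLE h)))

variable {W V : Opens X} (h : W ≤ V) {W' V' : Opens Y} (h' : W' ≤ V')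
  (hWW : hf.functor.obj W' ≤ W) (hWW' : W ≤ hf.functor.obj W')
  (hVV : hf.functor.obj V' ≤ V) (hVV' : V ≤ hf.functor.obj V')

theorem res_bijective_of_le (F : CohTop.Ab X) {O O' : Opens X} (h₁ : O' ≤ O) (h₂ : O ≤ O') :
    Function.Bijective (res F h₁) :=
  ⟨fun a b e => by simpa only [res_res, res_self] using congrArg (res F h₂) e,
    fun a => ⟨res F h₂ a, by rw [res_res, res_self]⟩⟩

include hWW in
theorem res_canSec_eq_zero {F : CohTop.Ab X} (s : F.obj.obj (op V)) (hs : res F h s = 0) :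
    res ((restrE hf).obj F) h' (res F hVV s : ((restrE hf).obj F).obj.obj (op V')) = 0 := by
  change res F (leOfHom (hf.functor.map (homOfLE h'))) (res F hVV s) = 0
  rw [res_res, ← res_res F h hWW, hs, map_zero]

/-- `ℤ_{V'}/ℤ_{W'} ⟶ (ℤ_V/ℤ_W)|_Y`. -/
noncomputable def zqRestr : LocCohZ.zq h' ⟶ (restrE hf).obj (LocCohZ.zq h) :=
  zqHom h' (F := (restrE hf).obj (LocCohZ.zq h)) (res (LocCohZ.zq h) hVV (zqSec h (𝟙 _)))
    (res_canSec_eq_zero hf h h' hWW hVV _ (res_zqSec h _))

/-- The restriction map on cohomology with supports. -/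
noncomputable def restrHZ (F : CohTop.Ab X) (n : ℕ) :
    LocCohZ.HZ F n h →+ LocCohZ.HZ ((restrE hf).obj F) n h' :=
  ((Ext.mk₀ (zqRestr hf h h' hWW hVV)).precomp ((restrE hf).obj F) (zero_add n)).comp
    ((restrE hf).mapExtAddHom (LocCohZ.zq h) F n)

theorem restrHZ_apply (F : CohTop.Ab X) (n : ℕ) (x : LocCohZ.HZ F n h) :
    restrHZ hf h h' hWW hVV F n x =
      (Ext.mk₀ (zqRestr hf h h' hWW hVV)).comp (x.mapExactFunctor (restrE hf)) (zero_add n) := rfl

theorem restrHZ_comp {F G : CohTop.Ab X} {a b c : ℕ} (hab : a + b = c) (x : LocCohZ.HZ F a h) (α : Ext F G b) :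
    restrHZ hf h h' hWW hVV G c (x.comp α hab) =
      (restrHZ hf h h' hWW hVV F a x).comp (α.mapExactFunctor (restrE hf)) hab := by
  rw [restrHZ_apply, restrHZ_apply, Ext.mapExactFunctor_comp]
  exact (Ext.comp_assoc _ _ _ (zero_add a) hab (by omega)).symm

theorem restrHZ_natural {F G : CohTop.Ab X} (φ : F ⟶ G) (n : ℕ) (x : LocCohZ.HZ F n h) :
    restrHZ hf h h' hWW hVV G n (LocCohZ.map φ n h x) =
      LocCohZ.map ((restrE hf).map φ) n h' (restrHZ hf h h' hWW hVV F n x) := by
  change restrHZ hf h h' hWW hVV G n (x.comp (Ext.mk₀ φ) (add_zero n)) =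
    (restrHZ hf h h' hWW hVV F n x).comp (Ext.mk₀ ((restrE hf).map φ)) (add_zero n)
  rw [restrHZ_comp, Ext.mapExactFunctor_mk₀]

theorem zqSec_restrHZ (F : CohTop.Ab X) (φ : LocCohZ.zq h ⟶ F) :
    zqSec h' (zqRestr hf h h' hWW hVV ≫ (restrE hf).map φ) = res F hVV (zqSec h φ) := by
  rw [zqSec_comp, zqRestr, zqSec_zqHom]
  refine (app_res φ hVV _).trans (congrArg (res F hVV) ?_)
  rw [← zqSec_comp, Category.id_comp]

include hWW' hVV' in
theorem restrHZ_zero_bijective (F : CohTop.Ab X) : Function.Bijective (restrHZ hf h h' hWW hVV F 0) := by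
  have key : ∀ φ : LocCohZ.zq h ⟶ F, restrHZ hf h h' hWW hVV F 0 (Ext.mk₀ φ) =
      Ext.mk₀ (zqRestr hf h h' hWW hVV ≫ (restrE hf).map φ) := fun φ => by
    rw [restrHZ_apply, Ext.mapExactFunctor_mk₀, Ext.mk₀_comp_mk₀]
  refine ⟨fun a b e => ?_, fun y => ?_⟩
  · obtain ⟨φ, rfl⟩ := (Ext.mk₀_bijective _ _).2 a
    obtain ⟨ψ, rfl⟩ := (Ext.mk₀_bijective _ _).2 b
    rw [key, key] at e
    have := congrArg (zqSec h') ((Ext.mk₀_bijective _ _).1 e)
    rw [zqSec_restrHZ, zqSec_restrHZ] at this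
    rw [zqSec_injective h ((res_bijective_of_le F hVV hVV').1 this)]
  · obtain ⟨ψ, rfl⟩ := (Ext.mk₀_bijective _ _).2 y
    obtain ⟨s, hs⟩ := (res_bijective_of_le F hVV hVV').2 (zqSec h' ψ)
    have hs0 : res F h s = 0 := (res_bijective_of_le F hWW hWW').1 (by
      rw [map_zero, res_res, ← res_res F hVV (leOfHom (hf.functor.map (homOfLE h'))), hs]
      exact res_zqSec h' ψ)
    refine ⟨Ext.mk₀ (zqHom h s hs0), (key _).trans (congrArg Ext.mk₀ (zqSec_injective h' ?_))⟩
    rw [zqSec_restrHZ, zqSec_zqHom, hs]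

include hWW' hVV' in
theorem restrHZ_bijective : ∀ (n : ℕ) (F : CohTop.Ab X), Function.Bijective (restrHZ hf h h' hWW hVV F n)
  | 0, F => restrHZ_zero_bijective hf h h' hWW hWW' hVV hVV' F
  | n + 1, F => by
    have hS := embedSeq_shortExact F
    have hS' := hS.map_of_exact (restrE hf)
    have hflat : TopCat.Sheaf.IsFlasque ((restrE hf).obj (embedSeq F).X₂) :=
      have : TopCat.Sheaf.IsFlasque (embedSeq F).X₂ := SiteCoh.injective_isFlasque _
      isFlasque_restrE hf _
    have key : ∀ x₃ : LocCohZ.HZ (embedSeq F).X₃ n h,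
        restrHZ hf h h' hWW hVV F (n + 1) (x₃.comp hS.extClass rfl) =
          (restrHZ hf h h' hWW hVV _ n x₃).comp hS'.extClass rfl := fun x₃ => by
      rw [restrHZ_comp, Ext.mapExactFunctor_extClass]
      rfl
    refine ⟨(injective_iff_map_eq_zero _).2 fun x hx => ?_, fun y => ?_⟩
    · obtain ⟨x₃, rfl⟩ := Ext.covariant_sequence_exact₁ _ hS x (Subsingleton.elim _ _) rfl
      rw [key] at hx
      obtain ⟨y₂, hy₂⟩ := Ext.covariant_sequence_exact₃ _ hS' _ rfl hx
      obtain ⟨x₂, rfl⟩ := (restrHZ_bijective n (embedSeq F).X₂).2 y₂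
      have h3 : x₂.comp (Ext.mk₀ (embedSeq F).g) (add_zero n) = x₃ :=
        (restrHZ_bijective n (embedSeq F).X₃).1 (by
          rw [restrHZ_comp, Ext.mapExactFunctor_mk₀]; exact hy₂)
      rw [← h3, Ext.comp_assoc _ _ _ (add_zero n) (zero_add 1) (by omega), hS.comp_extClass, Ext.comp_zero]
    · have : Subsingleton (Ext (LocCohZ.zq h') ((embedSeq F).map (restrE hf)).X₂ (n + 1)) :=
        subsingleton_HZ_of_isFlasque (F := (restrE hf).obj (embedSeq F).X₂) h' n
      obtain ⟨y₃, rfl⟩ := Ext.covariant_sequence_exact₁ _ hS' y (Subsingleton.elim _ _) rfl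
      obtain ⟨x₃, rfl⟩ := (restrHZ_bijective n (embedSeq F).X₃).2 y₃
      exact ⟨_, key x₃⟩

end Groth.Agent.LCZ
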