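import Mathlib
import Groth.Agent.LCZ.Affine
import Groth.Agent.LCZ.Embedding
import Groth.Agent.LCZ.Derived
import Groth.Agent.LocH.AdjDepthChange
import Groth.Agent.QC.Sections
import Groth.Agent.QC.Support
import Groth.Agent.QC.Coherent

/-!
Cohomology with supports of a quasi-coherent module over an affine open of a locally Noetherian scheme,
and stalks as localisations.
-/

set_option autoImplicit false

universe u

open CategoryTheory CategoryTheory.Limits Opposite TopologicalSpace AlgebraicGeometry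
open CategoryTheory.Abelian

namespace Groth.Agent.LCZ

theorem subsingleton_HZ_of_iso {X : TopCat.{u}} {F G : CohTop.Ab X} (e : F ≅ G) {W V : Opens X} (h : W ≤ V)
    {i : ℕ} (hF : Subsingleton (LocCohZ.HZ F i h)) : Subsingleton (LocCohZ.HZ G i h) :=
  subsingleton_of_forall_eq 0 fun x => by
    have h1 : (x.comp (Ext.mk₀ e.inv) (add_zero i)).comp (Ext.mk₀ e.hom) (add_zero i) = x := by
      rw [Ext.comp_assoc_of_second_deg_zero, Ext.mk₀_comp_mk₀, e.inv_hom_id, Ext.comp_mk₀_id]
    rw [← h1, @Subsingleton.elim _ hF (x.comp (Ext.mk₀ e.inv) (add_zero i)) 0, Ext.zero_comp]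

variable {X : Scheme.{u}}

/-- The abelian sheaf of a restriction. -/
theorem toAb_restrict_eq {Y : Scheme.{u}} (f : Y ⟶ X) [IsOpenImmersion f] (M : X.Modules) :
    Coh.toAb (M.restrict f) = (restrE (X := X.carrier) (Y := Y.carrier) (f := f.base) f.isOpenEmbedding).obj (Coh.toAb M) := rfl

theorem exists_ideal_subsingleton_HZ_iff (M : X.Modules) [M.IsQuasicoherent] {V : X.Opens} (hV : IsAffineOpen V)
    [IsNoetherianRing Γ(X, V)] (U : X.Opens) :
    ∃ J : Ideal Γ(X, V), (∀ p : PrimeSpectrum Γ(X, V), J ≤ p.asIdeal ↔ hV.fromSpec p ∉ U) ∧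
      ∀ i : ℕ, (Subsingleton (LocCohZ.HZ (X := X.carrier) (Coh.toAb M) i (inf_le_left : V ⊓ U ≤ V)) ↔
        Subsingleton (LocCoh.H J i Γ(M, V))) := by
  let f := hV.fromSpec
  let W : (Spec Γ(X, V)).Opens := f ⁻¹ᵁ U
  obtain ⟨J, hJ⟩ := exists_eq_openCompl (A := Γ(X, V)) W
  refine ⟨J, fun p => ?_, fun i => ?_⟩
  · have h1 : p ∈ EGA4.openCompl Γ(X, V) J ↔ f p ∈ U := by rw [hJ]; rfl
    rw [← not_iff_not, not_not, ← h1]
    rfl
  let hf : Topology.IsOpenEmbedding f.base := f.isOpenEmbedding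
  have hrange : ∀ z ∈ V, ∃ y, f y = z := fun z hz => by
    rw [← SetLike.mem_coe, ← hV.range_fromSpec] at hz
    exact hz
  have hmemV : ∀ y, f y ∈ V := fun y => by
    rw [← SetLike.mem_coe, ← hV.range_fromSpec]
    exact ⟨y, rfl⟩
  have hb := restrHZ_bijective (X := X.carrier) (Y := (Spec Γ(X, V)).carrier) (f := f.base) hf
    (inf_le_left : V ⊓ U ≤ V) (le_top : W ≤ ⊤)
    (fun z ⟨y, hy, e⟩ => e ▸ ⟨hmemV y, hy⟩)
    (fun z hz => by obtain ⟨y, rfl⟩ := hrange z hz.1; exact ⟨y, hz.2, rfl⟩)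
    (fun z ⟨y, _, e⟩ => e ▸ hmemV y)
    (fun z hz => by obtain ⟨y, rfl⟩ := hrange z hz; exact ⟨y, trivial, rfl⟩) i (Coh.toAb M)
  refine (AddEquiv.ofBijective _ hb).toEquiv.subsingleton_congr.trans ?_
  let P := M.restrict f
  have : P.IsQuasicoherent := Groth.Agent.QC.isQCoh_restrict f ‹M.IsQuasicoherent›
  let N : ModuleCat.{u} Γ(X, V) := (modulesSpecToSheaf.obj P).presheaf.obj (op ⊤)
  let e : tildeAb Γ(X, V) N ≅ Coh.toAb P := (toSheafS (Spec Γ(X, V))).mapIso (Groth.Agent.QC.isoTildeΓ P)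
  have e1 : Subsingleton (LocCohZ.HZc (X := (Spec Γ(X, V)).carrier) (Coh.toAb P) i W) ↔
      Subsingleton (LocCohZ.HZc (tildeAb Γ(X, V) N) i W) :=
    ⟨subsingleton_HZ_of_iso e.symm _, subsingleton_HZ_of_iso e _⟩
  refine e1.trans ?_
  rw [← hJ, subsingleton_HZc_iff J i N]
  let eU := Groth.Agent.QC.secEquiv hV M ⊤ (Groth.Agent.QC.image_fromSpec_top hV)
  let eL : N ≃ₗ[Γ(X, V)] Γ(M, V) :=
    { eU with
      map_smul' := fun r s => by
        have h2 := Groth.Agent.QC.secEquiv_smul (M := M) hV _ (Groth.Agent.QC.image_fromSpec_top hV) r s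
        rw [Groth.Agent.QC.resO_self] at h2
        exact h2 }
  exact ((localCohomology J i).mapIso (eL.toModuleIso : N ≅ ModuleCat.of _ Γ(M, V))).toLinearEquiv.toEquiv.subsingleton_congr

/-- The germ map, linearly over the sections of an affine open. -/
theorem depth_stalk_eq [IsLocallyNoetherian X] (M : X.Modules) (hM : Coh.IsCoh M) {V : X.Opens} (hV : IsAffineOpen V)
    (p : PrimeSpectrum Γ(X, V)) :
    LocCoh.depth (X.presheaf.stalk (hV.fromSpec p)) (M.presheaf.stalk (hV.fromSpec p)) =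
      LocCoh.depth (Localization.AtPrime p.asIdeal) (LocalizedModule p.asIdeal.primeCompl Γ(M, V)) := by
  have : M.IsQuasicoherent := hM.1
  have : Module.Finite Γ(X, V) Γ(M, V) := (Groth.Agent.QC.isCoh_iff_finite_sections.mp hM).2 ⟨V, hV⟩
  have : IsNoetherianRing Γ(X, V) := IsLocallyNoetherian.component_noetherian ⟨V, hV⟩
  have hloc := Groth.Agent.QC.isLoc_of_isQCoh hV (M := M)
  have hx : hV.fromSpec p ∈ V := by
    rw [← SetLike.mem_coe, ← hV.range_fromSpec]; exact ⟨p, rfl⟩
  let x := hV.fromSpec p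
  let := TopCat.Presheaf.algebra_section_stalk X.presheaf ⟨x, hx⟩
  have hS : IsLocalization.AtPrime (X.presheaf.stalk x) p.asIdeal := by
    have h := hV.isLocalization_stalk' p hx
    exact h
  have : IsNoetherianRing (X.presheaf.stalk x) :=
    IsLocalization.isNoetherianRing p.asIdeal.primeCompl _ inferInstance
  have hmem : ∀ r : Γ(X, V), r ∉ p.asIdeal ↔ x ∈ X.basicOpen r := by
    intro r
    rw [← hV.fromSpec_image_basicOpen r]
    constructor
    · intro h
      exact ⟨p, h, rfl⟩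
    · rintro ⟨q, hq, he⟩
      exact hV.fromSpec.isOpenEmbedding.injective he ▸ hq
  letI : Module Γ(X, V) (M.presheaf.stalk x) := Module.compHom _ (algebraMap Γ(X, V) (X.presheaf.stalk x))
  have : IsScalarTower Γ(X, V) (X.presheaf.stalk x) (M.presheaf.stalk x) :=
    IsScalarTower.of_algebraMap_smul fun _ _ => rfl
  let g : Γ(M, V) →ₗ[Γ(X, V)] M.presheaf.stalk x :=
    { toFun := fun s => M.presheaf.germ V x hx s
      map_add' := fun a b => map_add _ a b
      map_smul' := fun r s => PresheafOfModules.germ_smul (R := X.presheaf) M.val x V hx r s }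
  have : IsLocalizedModule p.asIdeal.primeCompl g :=
    { map_units := fun r => by
        have hu : IsUnit (algebraMap Γ(X, V) (X.presheaf.stalk x) r) := IsLocalization.map_units _ r
        rw [Module.End.isUnit_iff]
        have hb := (Module.End.isUnit_iff _).1 (hu.map (algebraMap (X.presheaf.stalk x) (Module.End (X.presheaf.stalk x) (M.presheaf.stalk x))))
        exact hb
      surj := fun σ => by
        obtain ⟨O, hxO, s, rfl⟩ := TopCat.Presheaf.germ_exist M.presheaf σ
        obtain ⟨r, hrO, hxr⟩ := hV.exists_basicOpen_le (⟨x, hxO⟩ : O) hx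
        obtain ⟨n, m, hm⟩ := hloc.exists_extend r (Groth.Agent.QC.res M hrO s)
        refine ⟨⟨m, ⟨r ^ n, fun h => (hmem r).2 hxr (p.isPrime.mem_of_pow_mem n h)⟩⟩, ?_⟩
        show algebraMap Γ(X, V) (X.presheaf.stalk x) (r ^ n) • _ = M.presheaf.germ V x hx m
        have h1 := congrArg (M.presheaf.germ (X.basicOpen r) x hxr) hm
        rw [Groth.Agent.QC.germ_res M (X.basicOpen_le r) x hxr m] at h1
        rw [h1, ← map_pow (Groth.Agent.QC.resO X (X.basicOpen_le r))]
        refine Eq.trans ?_ (PresheafOfModules.germ_smul (R := X.presheaf) M.val x _ hxr _ _).symm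
        refine congrArg₂ (fun a b => a • b) ?_ (Groth.Agent.QC.germ_res M hrO x hxr s).symm
        exact (TopCat.Presheaf.germ_res_apply X.presheaf (homOfLE (X.basicOpen_le r)) x hxr (r ^ n)).symm
      exists_of_eq := fun {a b} e => by
        obtain ⟨O, hxO, i₁, i₂, he⟩ := TopCat.Presheaf.germ_eq M.presheaf x hx hx a b e
        obtain ⟨r, hrO, hxr⟩ := hV.exists_basicOpen_le (⟨x, hxO⟩ : O) hx
        have h0 : Groth.Agent.QC.res M (X.basicOpen_le r) (a - b) = 0 := by
          rw [map_sub, ← Groth.Agent.QC.res_res M hrO i₁.le a, ← Groth.Agent.QC.res_res M hrO i₂.le b, sub_eq_zero]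
          exact congrArg _ he
        obtain ⟨n, hn⟩ := hloc.exists_pow_smul_eq_zero r _ h0
        refine ⟨⟨r ^ n, fun h => (hmem r).2 hxr (p.isPrime.mem_of_pow_mem n h)⟩, ?_⟩
        rw [smul_sub, sub_eq_zero] at hn
        exact hn }
  exact Groth.Agent.LocH.depth_eq_of_isLocalizedModule Γ(M, V) p.asIdeal (X.presheaf.stalk x)
    (fun r => IsLocalization.map_units _ r)
    (fun a => let ⟨⟨r, s⟩, h⟩ := IsLocalization.surj p.asIdeal.primeCompl a; ⟨r, s, h⟩) _ g

/-- Vanishing of cohomology with supports over an affine open, by the depths of the stalks. -/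
theorem forall_subsingleton_HZ_iff [IsLocallyNoetherian X] (M : X.Modules) (hM : Coh.IsCoh M) {V : X.Opens}
    (hV : IsAffineOpen V) (U : X.Opens) (n : ℕ) :
    (∀ i, i < n → Subsingleton (LocCohZ.HZ (X := X.carrier) (Coh.toAb M) i (inf_le_left : V ⊓ U ≤ V))) ↔
      ∀ x ∈ V, x ∉ U → (n : ℕ∞) ≤ LocCoh.depth (X.presheaf.stalk x) (M.presheaf.stalk x) := by
  have : M.IsQuasicoherent := hM.1
  have : Module.Finite Γ(X, V) Γ(M, V) := (Groth.Agent.QC.isCoh_iff_finite_sections.mp hM).2 ⟨V, hV⟩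
  have : IsNoetherianRing Γ(X, V) := IsLocallyNoetherian.component_noetherian ⟨V, hV⟩
  obtain ⟨J, hJ, h⟩ := exists_ideal_subsingleton_HZ_iff M hV U
  rw [show (∀ i, i < n → Subsingleton (LocCohZ.HZ (X := X.carrier) (Coh.toAb M) i (inf_le_left : V ⊓ U ≤ V))) ↔
    ∀ i, i < n → Subsingleton (LocCoh.H J i Γ(M, V)) from forall₂_congr fun i _ => h i,
    ← Groth.Agent.LocH.le_idealDepth_iff, Groth.Agent.LocH.le_idealDepth_iff_forall_prime]
  constructor
  · intro H x hxV hxU
    rw [← SetLike.mem_coe, ← hV.range_fromSpec] at hxV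
    obtain ⟨p, rfl⟩ := hxV
    rw [depth_stalk_eq M hM hV p]
    exact H p ((hJ p).2 hxU)
  · intro H p hp
    rw [← depth_stalk_eq M hM hV p]
    refine H _ ?_ ((hJ p).1 hp)
    rw [← SetLike.mem_coe, ← hV.range_fromSpec]
    exact ⟨p, rfl⟩

end Groth.Agent.LCZ
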