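import Mathlib
import Groth.Agent.LCZ.Supp
import Groth.Agent.SiteCoh.RestrOpen

/-!
Restriction to an open subspace is left adjoint to `j_*`, and agrees with `j⁻¹`.
-/

set_option autoImplicit false

universe u

open CategoryTheory CategoryTheory.Limits Opposite TopologicalSpace

namespace Groth.Agent.LCZ

variable {X : TopCat.{u}} (U : Opens X)

/-- `(·)|_U ⊣ j_*`. -/
noncomputable def restrAdj : CohTop.restrFunctor U ⊣ CohTop.push (CohCx.incl U) :=
  haveI hf : Topology.IsOpenEmbedding (CohCx.incl U).hom := U.isOpenEmbedding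
  haveI := hf.functor_isContinuous
  haveI : (Opens.map (CohCx.incl U)).IsContinuous (Opens.grothendieckTopology X) (Opens.grothendieckTopology (TopCat.of U)) := by
    apply Functor.isContinuous_of_coverPreserving
    · exact compatiblePreserving_opens_map _
    · exact coverPreserving_opens_map _
  (hf.isOpenMap.adjunction).sheafPushforwardContinuous (E := AddCommGrpCat.{u})
    (Opens.grothendieckTopology (TopCat.of U)) (Opens.grothendieckTopology X)

theorem restrAdj_unit_app (F : CohTop.Ab X) : (restrAdj U).unit.app F = toPushRestr U F := rfl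

/-- `j⁻¹ ≅ (·)|_U`. -/
noncomputable def pullRestrIso : CohTop.pull (CohCx.incl U) ≅ CohTop.restrFunctor U :=
  (TopCat.Sheaf.pullbackPushforwardAdjunction AddCommGrpCat.{u} (CohCx.incl U)).leftAdjointUniq (restrAdj U)

theorem unit_comp_pullRestrIso (F : CohTop.Ab X) :
    unit U F ≫ (CohTop.push (CohCx.incl U)).map ((pullRestrIso U).hom.app F) = toPushRestr U F :=
  (Adjunction.unit_leftAdjointUniq_hom_app _ (restrAdj U) F).trans (restrAdj_unit_app U F)

theorem epi_unit_of_isFlasque (F : CohTop.Ab X) [TopCat.Sheaf.IsFlasque F] : Epi (unit U F) := by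
  have h : Epi (toPushRestr U F) := by
    refine (Sheaf.isLocallySurjective_iff_epi' _ _).mp ⟨fun {V} s => ?_⟩
    rw [Opens.mem_grothendieckTopology]
    intro x hx
    obtain ⟨t, ht⟩ := res_surjective F (show (U.isOpenEmbedding.isOpenMap.functor.obj
      ((Opens.map (CohCx.incl U)).obj V)) ≤ V from fun z ⟨y, hy, e⟩ => e ▸ hy) s
    refine ⟨V, 𝟙 V, ⟨t, ?_⟩, hx⟩
    exact ht.trans (ConcreteCategory.congr_hom
      (((CohTop.push (CohCx.incl U)).obj ((CohTop.restrFunctor U).obj F)).obj.map_id (op V)) s).symm
  rw [← unit_comp_pullRestrIso] at h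
  have : IsIso ((CohTop.push (CohCx.incl U)).map ((pullRestrIso U).hom.app F)) := inferInstance
  exact (epi_comp_iff_of_isIso (unit U F) _).1 h

instance additive_pull_incl : (CohTop.pull (CohCx.incl U)).Additive :=
  haveI : (TopCat.Sheaf.pushforward AddCommGrpCat.{u} (CohCx.incl U)).Additive := { }
  (TopCat.Sheaf.pullbackPushforwardAdjunction AddCommGrpCat.{u} (CohCx.incl U)).left_adjoint_additive

instance preservesHomology_pull_incl : (CohTop.pull (CohCx.incl U)).PreservesHomology :=
  (((CategoryTheory.Functor.exact_tfae (CohTop.pull (CohCx.incl U))).out 0 2).1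
    fun S h => ShortComplex.shortExact_of_iso ((S : ShortComplex (CohTop.Ab X)).mapNatIso (pullRestrIso U).symm)
      (Groth.Agent.SiteCoh.restrFunctor_shortExact U h))

instance preservesInjectiveObjects_pull_incl : (CohTop.pull (CohCx.incl U)).PreservesInjectiveObjects :=
  ⟨fun {I} (hI : Injective I) => Injective.of_iso ((pullRestrIso U).app I).symm
    (@Groth.Agent.SiteCoh.restrFunctor_injective _ U I hI)⟩

end Groth.Agent.LCZ
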