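import Mathlib
import Groth.Agent.LCZ.Supp

/-!
`i_* ⊣ i⁻¹ Γ_Z` for the inclusion `i` of the closed complement `Z` of an open `U`.
-/

set_option autoImplicit false

universe u

open CategoryTheory CategoryTheory.Limits Opposite TopologicalSpace

namespace Groth.Agent.LCZ

variable {X : TopCat.{u}} (U : Opens X)

/-- The complement of `U` as a space. -/
abbrev Zsp : TopCat.{u} := TopCat.of ((U : Set X)ᶜ : Set X)

/-- Trace on `Z` of an open. -/
abbrev trZ (V : Opens X) : Opens (Zsp U) := (Opens.map (CohCx.inclCompl U)).obj V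

/-- The largest open of `X` with trace `O`. -/
def extZ (O : Opens (Zsp U)) : Opens X :=
  ⟨(Subtype.val '' (O : Set (Zsp U))) ∪ (U : Set X), by
    obtain ⟨O', hO', h⟩ := isOpen_induced_iff.1 O.isOpen
    rw [← h, Set.image_preimage_eq_inter_range, Subtype.range_coe_subtype]
    convert hO'.union U.isOpen using 1
    ext x
    by_cases hx : x ∈ (U : Set X)
    · simp [hx]
    · simp [hx]
      exact fun _ => hx⟩

theorem mem_extZ {O : Opens (Zsp U)} {x : X} : x ∈ extZ U O ↔ (∃ h : x ∉ U, (⟨x, h⟩ : Zsp U) ∈ O) ∨ x ∈ U := by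
  constructor
  · rintro (⟨⟨y, hy⟩, hyO, rfl⟩ | h)
    · exact Or.inl ⟨hy, hyO⟩
    · exact Or.inr h
  · rintro (⟨h, hO⟩ | h)
    · exact Or.inl ⟨⟨x, h⟩, hO, rfl⟩
    · exact Or.inr h

theorem extZ_mono {O O' : Opens (Zsp U)} (h : O' ≤ O) : extZ U O' ≤ extZ U O :=
  fun x hx => (mem_extZ U).2 (((mem_extZ U).1 hx).imp (fun ⟨a, b⟩ => ⟨a, h b⟩) id)

theorem le_extZ (O : Opens (Zsp U)) : U ≤ extZ U O := fun _ h => Or.inr h

theorem trZ_extZ_le (O : Opens (Zsp U)) : trZ U (extZ U O) ≤ O := fun z hz => by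
  rcases (mem_extZ U).1 hz with ⟨_, hO⟩ | h
  exacts [hO, absurd h z.2]

theorem le_trZ_extZ (O : Opens (Zsp U)) : O ≤ trZ U (extZ U O) :=
  fun z hz => Or.inl ⟨z, hz, rfl⟩

theorem le_extZ_trZ (V : Opens X) : V ≤ extZ U (trZ U V) := fun x hx => by
  by_cases h : x ∈ U
  exacts [Or.inr h, Or.inl ⟨⟨x, h⟩, hx, rfl⟩]

theorem extZ_trZ_le (V : Opens X) : extZ U (trZ U V) ≤ V ⊔ U := fun x hx => by
  rcases (mem_extZ U).1 hx with ⟨_, hV⟩ | h
  exacts [Or.inl hV, Or.inr h]

/-- `extZ` as a functor. -/
def extFunctor : Opens (Zsp U) ⥤ Opens X := Monotone.functor (f := extZ U) fun _ _ h => extZ_mono U h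

variable (F : CohTop.Ab X)

/-- The sheaf of sections with supports. -/
noncomputable abbrev gam : CohTop.Ab X := (LocCohZ.sectSuppF U).obj F

theorem gam_eq_zero {V : Opens X} (hV : V ≤ U) (t : (gam U F).obj.obj (op V)) : t = 0 := by
  refine suppι_injective U F V (Eq.trans ?_ (map_zero _).symm)
  have h := congrArg (res F (le_inf le_rfl hV : V ≤ V ⊓ U)) (res_suppι U F t)
  rwa [res_res, res_self, map_zero] at h

theorem gam_res_injective {V V' : Opens X} (h : V' ≤ V) (hc : V ≤ V' ⊔ U) :
    Function.Injective (res (gam U F) h) := by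
  intro s t e
  refine TopCat.Sheaf.eq_of_locally_eq₂ (gam U F) (homOfLE h) (homOfLE (inf_le_left : V ⊓ U ≤ V))
    (fun x hx => (hc hx).imp id fun hU => ⟨hx, hU⟩) s t e ?_
  exact (gam_eq_zero U F inf_le_right _).trans (gam_eq_zero U F inf_le_right _).symm

theorem gam_res_surjective {V V' : Opens X} (h : V' ≤ V) (hc : V ≤ V' ⊔ U) :
    Function.Surjective (res (gam U F) h) := by
  intro t
  obtain ⟨s, hs, -⟩ := TopCat.Sheaf.existsUnique_gluing' (gam U F) (fun b : ULift.{u} Bool => cond b.down V' (V ⊓ U)) V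
    (fun b => homOfLE (by rcases b with ⟨_ | _⟩; exacts [inf_le_left, h]))
    (fun x hx => Opens.mem_iSup.2 ((hc hx).elim (fun h' => ⟨⟨true⟩, h'⟩) (fun h' => ⟨⟨false⟩, hx, h'⟩)))
    (fun b => match b with | ⟨true⟩ => t | ⟨false⟩ => 0)
    (fun b c => by
      rcases b with ⟨_ | _⟩ <;> rcases c with ⟨_ | _⟩
      · rfl
      · exact (gam_eq_zero U F (inf_le_left.trans inf_le_right) _).trans (gam_eq_zero U F (inf_le_left.trans inf_le_right) _).symm
      · exact (gam_eq_zero U F (inf_le_right.trans inf_le_right) _).trans (gam_eq_zero U F (inf_le_right.trans inf_le_right) _).symm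
      · rfl)
  exact ⟨s, hs ⟨true⟩⟩

theorem isSheaf_gamZ : TopCat.Presheaf.IsSheaf ((extFunctor U).op ⋙ (gam U F).obj : (Opens (Zsp U))ᵒᵖ ⥤ AddCommGrpCat.{u}) := by
  rw [TopCat.Presheaf.isSheaf_iff_isSheafUniqueGluing]
  intro ι O sf hsf
  let W : Option ι → Opens X := fun o => o.elim U fun j => extZ U (O j)
  let t : ∀ o, (gam U F).obj.obj (op (W o)) := fun o => match o with
    | none => 0
    | some j => sf j
  have hle : ∀ o, W o ≤ extZ U (iSup O) := fun o => by
    rcases o with _ | j
    exacts [le_extZ U _, extZ_mono U (le_iSup O j)]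
  have hcomp : TopCat.Presheaf.IsCompatible (gam U F).obj W t := fun a b => by
    rcases a with _ | j
    · exact (gam_eq_zero U F inf_le_left _).trans (gam_eq_zero U F inf_le_left _).symm
    rcases b with _ | k
    · exact (gam_eq_zero U F inf_le_right _).trans (gam_eq_zero U F inf_le_right _).symm
    have hle' : extZ U (O j) ⊓ extZ U (O k) ≤ extZ U (O j ⊓ O k) := fun x hx =>
      (le_extZ_trZ U (extZ U (O j) ⊓ extZ U (O k))).trans
        (extZ_mono U (le_inf (fun z hz => trZ_extZ_le U _ hz.1) (fun z hz => trZ_extZ_le U _ hz.2))) hx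
    have h1 := congrArg (res (gam U F) hle') (hsf j k)
    refine Eq.trans ?_ (h1.trans ?_)
    · exact (res_res (gam U F) _ _ (sf j)).symm
    · exact res_res (gam U F) _ _ (sf k)
  have hcov : extZ U (iSup O) ≤ iSup W := fun x hx => by
    rcases (mem_extZ U).1 hx with ⟨h, hO⟩ | h
    · obtain ⟨j, hj⟩ := Opens.mem_iSup.1 hO
      exact Opens.mem_iSup.2 ⟨some j, (mem_extZ U).2 (Or.inl ⟨h, hj⟩)⟩
    · exact Opens.mem_iSup.2 ⟨none, h⟩
  obtain ⟨s, hs, hu⟩ := TopCat.Sheaf.existsUnique_gluing' (gam U F) W (extZ U (iSup O)) (fun o => homOfLE (hle o)) hcov t hcomp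
  refine ⟨s, fun j => hs (some j), fun s' hs' => hu s' fun o => ?_⟩
  rcases o with _ | j
  exacts [gam_eq_zero U F le_rfl _, hs' j]

/-- The sections with supports as a functor to sheaves on `Z`. -/
noncomputable def gamZ : CohTop.Ab X ⥤ CohTop.Ab (Zsp U) where
  obj F := ⟨(extFunctor U).op ⋙ (gam U F).obj, isSheaf_gamZ U F⟩
  map φ := ⟨Functor.whiskerLeft (extFunctor U).op ((LocCohZ.sectSuppF U).map φ).hom⟩
  map_id F := by
    rw [CategoryTheory.Functor.map_id]
    rfl
  map_comp φ ψ := by
    rw [CategoryTheory.Functor.map_comp]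
    rfl

/-- `Γ_Z F(V) ⟶ (i_* gamZ F)(V)` is inverse to restriction. -/
noncomputable def gamPushIso : gamZ U ⋙ CohTop.push (CohCx.inclCompl U) ≅ LocCohZ.sectSuppF U :=
  NatIso.ofComponents (fun F => (fullyFaithfulSheafToPresheaf _ _).preimageIso
    (NatIso.ofComponents (fun V => @asIso _ _ _ _ ((gam U F).obj.map (homOfLE (le_extZ_trZ U V.unop)).op)
      ((ConcreteCategory.isIso_iff_bijective _).2 ⟨gam_res_injective U F (le_extZ_trZ U V.unop) (extZ_trZ_le U V.unop),
        gam_res_surjective U F (le_extZ_trZ U V.unop) (extZ_trZ_le U V.unop)⟩))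
      (fun {V V'} g => by
        exact ((gam U F).obj.map_comp _ _).symm.trans ((congrArg _ (Subsingleton.elim _ _)).trans ((gam U F).obj.map_comp _ _)))))
    (fun {F G} φ => by
      apply Sheaf.hom_ext
      ext V : 2
      exact (((LocCohZ.sectSuppF U).map φ).hom.naturality (homOfLE (le_extZ_trZ U V.unop)).op).symm)

variable (G : CohTop.Ab (Zsp U))

theorem push_eq_zero {V : Opens X} (hV : V ≤ U) (g : G.obj.obj (op (trZ U V))) : g = 0 := by
  refine TopCat.Sheaf.eq_of_locally_eq' G (fun e : PEmpty.{u + 1} => e.elim) (trZ U V) (fun e => e.elim) ?_ g 0 (fun e => e.elim)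
  exact fun z hz => absurd (hV hz) z.2

variable {U F G}

theorem res_app_eq_zero (ψ : (CohTop.push (CohCx.inclCompl U)).obj G ⟶ F) {V : Opens X} (g : G.obj.obj (op (trZ U V))) :
    res F (inf_le_left : V ⊓ U ≤ V) (ψ.hom.app (op V) g) = 0 :=
  (app_res ψ (inf_le_left : V ⊓ U ≤ V) g).symm.trans
    ((congrArg (ψ.hom.app (op (V ⊓ U))) (push_eq_zero U G inf_le_right _)).trans (map_zero _))

/-- Lift to the sections with supports. -/
noncomputable def liftSupp (ψ : (CohTop.push (CohCx.inclCompl U)).obj G ⟶ F) :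
    (CohTop.push (CohCx.inclCompl U)).obj G ⟶ gam U F :=
  kernel.lift (unit U F) ψ (by
    apply Sheaf.hom_ext
    ext V g
    exact (unit_app_eq_zero_iff U F _ _).2 (res_app_eq_zero ψ g))

variable (U)

/-- `G ⟶ gamZ (i_* G)`. -/
noncomputable def toGamZ (G : CohTop.Ab (Zsp U)) : G ⟶ (gamZ U).obj ((CohTop.push (CohCx.inclCompl U)).obj G) :=
  ⟨{ app := fun O => G.obj.map (homOfLE (trZ_extZ_le U O.unop)).op ≫
      (liftSupp (𝟙 _)).hom.app (op (extZ U O.unop))
     naturality := fun O O' g => by
       refine Eq.trans ?_ ((congrArg (fun e => G.obj.map (homOfLE (trZ_extZ_le U O.unop)).op ≫ e)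
         ((liftSupp (𝟙 ((CohTop.push (CohCx.inclCompl U)).obj G))).hom.naturality ((extFunctor U).op.map g))).trans (Category.assoc _ _ _).symm)
       refine ((Category.assoc _ _ _).symm.trans (congrArg (fun e => e ≫ (liftSupp (𝟙 ((CohTop.push (CohCx.inclCompl U)).obj G))).hom.app (op (extZ U O'.unop))) ?_)).trans (Category.assoc _ _ _)
       exact (G.obj.map_comp _ _).symm.trans ((congrArg _ (Subsingleton.elim _ _)).trans (G.obj.map_comp _ _)) }⟩

/-- `i_* gamZ F ⟶ F`. -/
noncomputable def fromPush (F : CohTop.Ab X) : (CohTop.push (CohCx.inclCompl U)).obj ((gamZ U).obj F) ⟶ F :=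
  (gamPushIso U).hom.app F ≫ suppι U F

theorem isIso_toGamZ (G : CohTop.Ab (Zsp U)) : IsIso (toGamZ U G) := by
  let P := (CohTop.push (CohCx.inclCompl U)).obj G
  have h1 : liftSupp (𝟙 P) ≫ suppι U P = 𝟙 P := kernel.lift_ι _ _ _
  have : IsIso (suppι U P) := by
    refine ⟨liftSupp (𝟙 P), ?_, h1⟩
    rw [← cancel_mono (suppι U P), Category.assoc, h1, Category.comp_id, Category.id_comp]
  have h2 : IsIso (liftSupp (𝟙 P)) := IsIso.of_isIso_fac_right h1
  have : IsIso ((sheafToPresheaf _ _).map (liftSupp (𝟙 P))) := inferInstance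
  have : ∀ O, IsIso ((toGamZ U G).hom.app O) := fun O => by
    have h3 : IsIso ((liftSupp (𝟙 P)).hom.app (op (extZ U O.unop))) :=
      inferInstanceAs (IsIso (((sheafToPresheaf _ _).map (liftSupp (𝟙 P))).app (op (extZ U O.unop))))
    have h4 : IsIso (G.obj.map (homOfLE (trZ_extZ_le U O.unop)).op) :=
      ⟨G.obj.map (homOfLE (le_trZ_extZ U O.unop)).op, by rw [← Functor.map_comp, ← G.obj.map_id]; rfl,
        by rw [← Functor.map_comp, ← G.obj.map_id]; rfl⟩
    exact IsIso.comp_isIso' h4 h3
  have : IsIso (toGamZ U G).hom := NatIso.isIso_of_isIso_app _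
  have : IsIso ((sheafToPresheaf _ _).map (toGamZ U G)) := this
  exact isIso_of_fully_faithful (sheafToPresheaf _ _) _

/-- `i_* ⊣ gamZ`. -/
noncomputable def pushGamZAdj : CohTop.push (CohCx.inclCompl U) ⊣ gamZ U :=
  Adjunction.mkOfUnitCounit
    { unit :=
        { app := toGamZ U
          naturality := fun G G' φ => by
            apply Sheaf.hom_ext
            ext O : 2
            have h := (sectSuppF_map_suppι U ((CohTop.push (CohCx.inclCompl U)).map φ))
            have h' : liftSupp (𝟙 _) ≫ (LocCohZ.sectSuppF U).map ((CohTop.push (CohCx.inclCompl U)).map φ) =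
                (CohTop.push (CohCx.inclCompl U)).map φ ≫ liftSupp (𝟙 _) := by
              rw [← cancel_mono (suppι U _), Category.assoc, h, Category.assoc]
              erw [kernel.lift_ι_assoc, kernel.lift_ι]
              simp
            refine ((Category.assoc _ _ _).symm.trans ((congrArg (fun e => e ≫ _) (φ.hom.naturality (homOfLE (trZ_extZ_le U O.unop)).op).symm).trans ?_))
            refine (Category.assoc _ _ _).trans (Eq.trans ?_ (Category.assoc _ _ _).symm)
            exact congrArg (fun e => G.obj.map (homOfLE (trZ_extZ_le U O.unop)).op ≫ e)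
              (congrArg (fun a => a.hom.app (op (extZ U O.unop))) h').symm }
      counit :=
        { app := fromPush U
          naturality := fun F F' φ => by
            simp only [fromPush, Category.assoc]
            erw [(gamPushIso U).hom.naturality_assoc φ]
            congr 1
            exact sectSuppF_map_suppι U φ }
      left_triangle := by
        ext G : 2
        apply Sheaf.hom_ext
        ext V : 2
        ext g
        let P := (CohTop.push (CohCx.inclCompl U)).obj G
        let y := G.obj.map (homOfLE (trZ_extZ_le U (trZ U V.unop))).op g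
        change (suppι U P).hom.app V ((gam U P).obj.map (homOfLE (le_extZ_trZ U V.unop)).op
          ((liftSupp (𝟙 P)).hom.app (op (extZ U (trZ U V.unop))) y)) = g
        refine (app_res (suppι U P) (le_extZ_trZ U V.unop) _).trans ?_
        refine (congrArg (res P (le_extZ_trZ U V.unop))
          (congrArg (fun a : P ⟶ P => a.hom.app (op (extZ U (trZ U V.unop))) y) (kernel.lift_ι (unit U P) (𝟙 P) _))).trans ?_
        exact (ConcreteCategory.congr_hom ((G.obj.map_comp _ _).symm.trans ((congrArg _ (Subsingleton.elim _ _)).trans (G.obj.map_id _))) g)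
      right_triangle := by
        ext F : 2
        apply Sheaf.hom_ext
        ext O : 2
        ext x
        let P := (CohTop.push (CohCx.inclCompl U)).obj ((gamZ U).obj F)
        refine suppι_injective U F (extZ U O.unop) ?_
        let y : P.obj.obj (op (extZ U O.unop)) := ((gamZ U).obj F).obj.map (homOfLE (trZ_extZ_le U O.unop)).op x
        change (suppι U F).hom.app (op (extZ U O.unop)) (((LocCohZ.sectSuppF U).map (fromPush U F)).hom.app (op (extZ U O.unop))
          ((liftSupp (𝟙 P)).hom.app (op (extZ U O.unop)) y)) = _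
        refine (suppι_map_apply U (fromPush U F) _).trans ?_
        refine (congrArg ((fromPush U F).hom.app (op (extZ U O.unop)))
          (congrArg (fun a : P ⟶ P => a.hom.app (op (extZ U O.unop)) y) (kernel.lift_ι (unit U P) (𝟙 P) _))).trans ?_
        change (suppι U F).hom.app (op (extZ U O.unop)) ((gam U F).obj.map _ ((gam U F).obj.map _ x)) = _
        congr 1
        exact (ConcreteCategory.congr_hom (((gam U F).obj.map_comp _ _).symm.trans ((congrArg _ (Subsingleton.elim _ _)).trans ((gam U F).obj.map_id _))) x) }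

instance isIso_pushGamZAdj_unit : IsIso (pushGamZAdj U).unit := by
  have : ∀ G, IsIso ((pushGamZAdj U).unit.app G) := isIso_toGamZ U
  exact NatIso.isIso_of_isIso_app _

/-- `i_*` is fully faithful. -/
noncomputable def fullyFaithfulPush : (CohTop.push (CohCx.inclCompl U)).FullyFaithful :=
  (pushGamZAdj U).fullyFaithfulLOfIsIsoUnit

/-- `gamZ ≅ Γ_Z ⋙ i⁻¹`. -/
noncomputable def gamZIso : gamZ U ≅ LocCohZ.sectSuppF U ⋙ CohTop.pull (CohCx.inclCompl U) :=
  haveI := (fullyFaithfulPush U).full
  haveI := (fullyFaithfulPush U).faithful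
  haveI : (TopCat.Sheaf.pushforward AddCommGrpCat.{u} (CohCx.inclCompl U)).Full := (fullyFaithfulPush U).full
  haveI : (TopCat.Sheaf.pushforward AddCommGrpCat.{u} (CohCx.inclCompl U)).Faithful := (fullyFaithfulPush U).faithful
  haveI : IsIso (TopCat.Sheaf.pullbackPushforwardAdjunction AddCommGrpCat.{u} (CohCx.inclCompl U)).counit :=
    Adjunction.counit_isIso_of_R_fully_faithful _
  (gamZ U).rightUnitor.symm ≪≫
    Functor.isoWhiskerLeft (gamZ U)
      (asIso (TopCat.Sheaf.pullbackPushforwardAdjunction AddCommGrpCat.{u} (CohCx.inclCompl U)).counit).symm ≪≫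
    (Functor.associator _ _ _).symm ≪≫ Functor.isoWhiskerRight (gamPushIso U) _

end Groth.Agent.LCZ
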